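import Groth.Agent.Lib.Helper12.IntegralDim
import Mathlib.RingTheory.NoetherNormalization
import Mathlib.RingTheory.KrullDimension.Polynomial
import Mathlib.RingTheory.KrullDimension.Field
import Mathlib.RingTheory.TensorProduct.MvPolynomial
import Mathlib.RingTheory.Flat.Basic
import Mathlib.AlgebraicGeometry.Morphisms.FiniteType
import Mathlib.AlgebraicGeometry.Pullbacks
import Mathlib.Topology.KrullDimension
import Mathlib.RingTheory.Spectrum.Prime.Topology

/-!
# Dimension of finite type algebras over a field is invariant under field extension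
-/

universe u

namespace Groth.Agent.Lib.Helper22

open TensorProduct

/-- If `A` is a finite injective extension of a polynomial ring in `s` variables over a field then
`dim A = s`. -/
theorem ringKrullDim_eq_of_finite_inj {k A : Type u} [Field k] [CommRing A] [Algebra k A] (s : ℕ)
    (g : MvPolynomial (Fin s) k →ₐ[k] A) (hinj : Function.Injective g)
    (hint : ∀ a : A, g.toRingHom.IsIntegralElem a) :
    ringKrullDim A = s := by
  letI : Algebra (MvPolynomial (Fin s) k) A := g.toRingHom.toAlgebra
  haveI : Algebra.IsIntegral (MvPolynomial (Fin s) k) A := ⟨hint⟩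
  rw [← Groth.Agent.Lib.Helper12.ringKrullDim_eq_of_isIntegral_of_injective
    (MvPolynomial (Fin s) k) A hinj, MvPolynomial.ringKrullDim_of_isNoetherianRing,
    ringKrullDim_eq_zero_of_field]
  simp

/-- The Krull dimension of a finite type algebra over a field is invariant under extension of the
base field. -/
theorem ringKrullDim_tensor_field (k K A : Type u) [Field k] [Field K] [Algebra k K] [CommRing A]
    [Algebra k A] [Algebra.FiniteType k A] :
    ringKrullDim (K ⊗[k] A) = ringKrullDim A := by
  rcases subsingleton_or_nontrivial A with hA | hA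
  · haveI : Subsingleton (K ⊗[k] A) := by
      refine ⟨fun a b => ?_⟩
      have h0 : ∀ z : K ⊗[k] A, z = 0 := by
        intro z
        induction z using TensorProduct.induction_on with
        | zero => rfl
        | tmul c a => rw [Subsingleton.elim a 0, TensorProduct.tmul_zero]
        | add x y hx hy => rw [hx, hy, add_zero]
      rw [h0 a, h0 b]
    rw [ringKrullDim_eq_bot_of_subsingleton, ringKrullDim_eq_bot_of_subsingleton]
  obtain ⟨s, g, hinj, hfin⟩ := exists_finite_inj_algHom_of_fg k A
  have hint : ∀ a : A, g.toRingHom.IsIntegralElem a := fun a => hfin.to_isIntegral a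
  rw [ringKrullDim_eq_of_finite_inj s g hinj hint]
  let e := MvPolynomial.algebraTensorAlgEquiv (σ := Fin s) k K
  let G : MvPolynomial (Fin s) K →ₐ[K] K ⊗[k] A :=
    (Algebra.TensorProduct.map (AlgHom.id K K) g).comp e.symm.toAlgHom
  have hGinj : Function.Injective G := by
    have h1 : Function.Injective (Algebra.TensorProduct.map (AlgHom.id K K) g) := by
      have := Module.Flat.lTensor_preserves_injective_linearMap (M := K) g.toLinearMap hinj
      intro a b hab
      apply this
      have key : ∀ z, (Algebra.TensorProduct.map (AlgHom.id K K) g) z =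
          (g.toLinearMap.lTensor K) z := by
        intro z
        induction z using TensorProduct.induction_on with
        | zero => simp
        | tmul c p => simp
        | add x y hx hy => rw [map_add, map_add, hx, hy]
      rw [← key, ← key, hab]
    exact h1.comp e.symm.injective
  have hG1 : ∀ q : MvPolynomial (Fin s) k,
      G (MvPolynomial.map (algebraMap k K) q) = (1 : K) ⊗ₜ[k] g q := by
    intro q
    simp [G, e]
  have hGint : ∀ z : K ⊗[k] A, G.toRingHom.IsIntegralElem z := by
    letI : Algebra (MvPolynomial (Fin s) K) (K ⊗[k] A) := G.toRingHom.toAlgebra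
    letI : Algebra (MvPolynomial (Fin s) k) A := g.toRingHom.toAlgebra
    have h1 : ∀ a : A, IsIntegral (MvPolynomial (Fin s) K) ((1 : K) ⊗ₜ[k] a) := by
      intro a
      have ha : IsIntegral (MvPolynomial (Fin s) k) a := hint a
      have := IsIntegral.map_of_comp_eq (R := MvPolynomial (Fin s) k) (S := A)
        (T := MvPolynomial (Fin s) K) (U := K ⊗[k] A)
        (MvPolynomial.map (algebraMap k K))
        (Algebra.TensorProduct.includeRight : A →ₐ[k] K ⊗[k] A).toRingHom ?_ ha
      · simpa using this
      · refine RingHom.ext fun q => ?_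
        simp only [RingHom.comp_apply, RingHom.algebraMap_toAlgebra]
        exact hG1 q
    have h2 : ∀ c : K, IsIntegral (MvPolynomial (Fin s) K) (c ⊗ₜ[k] (1 : A)) := by
      intro c
      have : c ⊗ₜ[k] (1 : A) = algebraMap (MvPolynomial (Fin s) K) (K ⊗[k] A)
          (MvPolynomial.C c) := by
        simp [RingHom.algebraMap_toAlgebra, G, e]
      rw [this]
      exact isIntegral_algebraMap
    intro z
    change IsIntegral (MvPolynomial (Fin s) K) z
    induction z using TensorProduct.induction_on with
    | zero => exact isIntegral_zero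
    | tmul c a =>
      have : c ⊗ₜ[k] a = (c ⊗ₜ[k] (1 : A)) * ((1 : K) ⊗ₜ[k] a) := by simp
      rw [this]
      exact (h2 c).mul (h1 a)
    | add x y hx hy => exact hx.add hy
  exact ringKrullDim_eq_of_finite_inj s G hGinj hGint

end Groth.Agent.Lib.Helper22

namespace Groth.Agent.Lib.Helper22

open AlgebraicGeometry CategoryTheory Limits TensorProduct

/-- Any morphism to an affine scheme `Spec R` factors through `toSpecΓ`. -/
theorem eq_toSpecΓ_comp (Y : Scheme.{u}) (R : CommRingCat.{u}) (h : Y ⟶ Spec R) :
    h = Y.toSpecΓ ≫ Spec.map ((Scheme.ΓSpecIso R).inv ≫ h.appTop) := by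
  rw [Spec.map_comp, ← Category.assoc, ← Scheme.toSpecΓ_naturality, Category.assoc,
    toSpecΓ_SpecMap_ΓSpecIso_inv, Category.comp_id]

/-- Base change of an affine finite type `k`-scheme to a field extension has the same dimension. -/
theorem topologicalKrullDim_eq_of_isPullback_Spec (k K A : Type u) [Field k] [Field K]
    [Algebra k K] [CommRing A] [Algebra k A] [Algebra.FiniteType k A] {W : Scheme.{u}}
    (a : W ⟶ Spec (.of A)) (b : W ⟶ Spec (.of K))
    (hpb : IsPullback a b (Spec.map (CommRingCat.ofHom (algebraMap k A)))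
      (Spec.map (CommRingCat.ofHom (algebraMap k K)))) :
    topologicalKrullDim W = ringKrullDim A := by
  let e : W ≅ Spec (.of (A ⊗[k] K)) := hpb.isoPullback ≪≫ pullbackSpecIso k A K
  have h1 : topologicalKrullDim W = topologicalKrullDim (PrimeSpectrum (A ⊗[k] K)) :=
    IsHomeomorph.topologicalKrullDim_eq _ (Scheme.homeoOfIso e).isHomeomorph
  rw [h1, PrimeSpectrum.topologicalKrullDim_eq_ringKrullDim,
    ringKrullDim_eq_of_ringEquiv (Algebra.TensorProduct.comm k A K).toRingEquiv,
    ringKrullDim_tensor_field]

/-- Base change of an affine scheme, locally of finite type over a field, to a field extension has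
the same dimension. -/
theorem topologicalKrullDim_eq_of_isPullback_of_isAffine (k K : Type u) [Field k] [Field K]
    {Y W : Scheme.{u}} [IsAffine Y] (h : Y ⟶ Spec (.of k)) [LocallyOfFiniteType h]
    (ρ : Spec (.of K) ⟶ Spec (.of k)) (a : W ⟶ Y) (b : W ⟶ Spec (.of K))
    (hpb : IsPullback a b h ρ) :
    topologicalKrullDim W = topologicalKrullDim Y := by
  obtain ⟨ψ, rfl⟩ := Spec.map_surjective ρ
  algebraize [ψ.hom]
  let χ : (CommRingCat.of k) ⟶ Γ(Y, ⊤) := (Scheme.ΓSpecIso (.of k)).inv ≫ h.appTop
  algebraize [χ.hom]
  have hh : h = Y.isoSpec.hom ≫ Spec.map χ := by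
    rw [Scheme.isoSpec_hom]
    exact eq_toSpecΓ_comp Y (.of k) h
  have hft : Algebra.FiniteType k Γ(Y, ⊤) := by
    have h1 : LocallyOfFiniteType (Spec.map χ) := by
      have : Spec.map χ = Y.isoSpec.inv ≫ h := by rw [hh, Iso.inv_hom_id_assoc]
      rw [this]; infer_instance
    have h2 : χ.hom.FiniteType := (HasRingHomProperty.Spec_iff (P := @LocallyOfFiniteType)).mp h1
    exact h2
  have hpb' : IsPullback (a ≫ Y.isoSpec.hom) b
      (Spec.map (CommRingCat.ofHom (algebraMap k Γ(Y, ⊤))))
      (Spec.map (CommRingCat.ofHom (algebraMap k K))) := by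
    refine IsPullback.of_iso hpb (Iso.refl W) Y.isoSpec (Iso.refl _) (Iso.refl _) ?_ ?_ ?_ ?_
    · simp
    · simp
    · rw [Iso.refl_hom, Category.comp_id, hh]; rfl
    · simp; rfl
  rw [topologicalKrullDim_eq_of_isPullback_Spec k K Γ(Y, ⊤) _ _ hpb']
  have h2 : topologicalKrullDim Y = topologicalKrullDim (PrimeSpectrum Γ(Y, ⊤)) :=
    IsHomeomorph.topologicalKrullDim_eq _ (Scheme.homeoOfIso Y.isoSpec).isHomeomorph
  rw [h2, PrimeSpectrum.topologicalKrullDim_eq_ringKrullDim]

end Groth.Agent.Lib.Helper22
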