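import Mathlib.CategoryTheory.Abelian.RightDerived
import Mathlib.Algebra.Homology.ShortComplex.PreservesHomology

/-!
# Right derived functors: post-composition with an exact functor, and natural isomorphisms
-/

set_option autoImplicit false
set_option linter.unusedSectionVars false

universe v v' v'' u u' u''

open CategoryTheory Limits

namespace Groth.Agent.Lib.Helper22.DimShift

variable {C : Type u} [Category.{v} C] [Abelian C] [HasInjectiveResolutions C]
  {D : Type u'} [Category.{v'} D] [Abelian D]
  {D' : Type u''} [Category.{v''} D'] [Abelian D']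

/-- Isomorphic functors have isomorphic right derived functors. -/
noncomputable def rightDerivedIsoOfNatIso {G G' : C ⥤ D} [G.Additive] [G'.Additive] (e : G ≅ G')
    (n : ℕ) : G.rightDerived n ≅ G'.rightDerived n where
  hom := NatTrans.rightDerived e.hom n
  inv := NatTrans.rightDerived e.inv n
  hom_inv_id := by rw [← NatTrans.rightDerived_comp, e.hom_inv_id, NatTrans.rightDerived_id]
  inv_hom_id := by rw [← NatTrans.rightDerived_comp, e.inv_hom_id, NatTrans.rightDerived_id]

/-- Right derived functors commute with post-composition by an exact functor. -/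
noncomputable def rightDerivedCompExactIso (G : C ⥤ D) [G.Additive] (E : D ⥤ D') [E.Additive]
    [E.PreservesHomology] (n : ℕ) (A : C) :
    ((G ⋙ E).rightDerived n).obj A ≅ E.obj ((G.rightDerived n).obj A) := by
  let I : InjectiveResolution A := Classical.choice (HasInjectiveResolution.out)
  let K := (G.mapHomologicalComplex (ComplexShape.up ℕ)).obj I.cocomplex
  let e₁ : (((G ⋙ E).mapHomologicalComplex (ComplexShape.up ℕ)).obj I.cocomplex).homology n ≅
      ((K.sc n).map E).homology := Iso.refl _
  exact I.isoRightDerivedObj (G ⋙ E) n ≪≫ e₁ ≪≫ (K.sc n).mapHomologyIso E ≪≫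
    E.mapIso (I.isoRightDerivedObj G n).symm

end Groth.Agent.Lib.Helper22.DimShift
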