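import Mathlib.Topology.KrullDimension
import Mathlib.Topology.Sober
import Mathlib.Topology.Separation.Basic

/-!
# Spaces of Krull dimension at most zero
-/

namespace Groth.Agent.Lib.Helper22

open TopologicalSpace

/-- In a space of Krull dimension `≤ 0`, specialization is trivial (for `T0` spaces). -/
theorem eq_of_specializes_of_dim_le_zero {X : Type*} [TopologicalSpace X] [T0Space X]
    (h : topologicalKrullDim X ≤ 0) {x y : X} (hxy : x ⤳ y) : x = y := by
  have hmax := Order.krullDim_nonpos_iff_forall_isMax.mp h
  let Zx : IrreducibleCloseds X := ⟨closure {x}, isIrreducible_singleton.closure, isClosed_closure⟩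
  let Zy : IrreducibleCloseds X := ⟨closure {y}, isIrreducible_singleton.closure, isClosed_closure⟩
  have hle : Zy ≤ Zx := by
    change closure {y} ⊆ closure {x}
    exact specializes_iff_closure_subset.mp hxy
  have hge : Zx ≤ Zy := hmax Zy hle
  have hyx : y ⤳ x := specializes_iff_closure_subset.mpr hge
  exact (hxy.antisymm hyx).eq

/-- A `T0` space of Krull dimension `≤ 0` is `T1`. -/
theorem t1Space_of_dim_le_zero {X : Type*} [TopologicalSpace X] [T0Space X]
    (h : topologicalKrullDim X ≤ 0) : T1Space X := by
  refine ⟨fun x => ?_⟩
  rw [← closure_eq_iff_isClosed]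
  ext y
  constructor
  · intro hy
    have : x ⤳ y := specializes_iff_mem_closure.mpr hy
    exact (eq_of_specializes_of_dim_le_zero h this).symm
  · rintro rfl
    exact subset_closure rfl

end Groth.Agent.Lib.Helper22
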