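import Groth.Agent.Lib.Helper22.DerivedMV
import Groth.Agent.Lib.Helper22.Horseshoe.DerivedLES
import Groth.Agent.Lib.Helper25.DeltaFEff

/-!
# Mayer–Vietoris for effaceable δ-functors

* `natTrans_delta`: `NatTrans.rightDerived α` commutes with the connecting morphisms of right derived
  functors;
* `RD G`: the right derived functors of `G` as a universal δ-functor; `RDmap α`;
* `θ T : RD (T.F 0) ≅ T` for an effaceable δ-functor with left exact `T.F 0`, natural in `T`;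
* `main`: Mayer–Vietoris long exact sequence for four effaceable δ-functors related by morphisms
  forming a square which is a short exact sequence on injectives in degree `0`.
-/

set_option autoImplicit false

universe v u v' u'

open CategoryTheory CategoryTheory.Limits

namespace Groth.Agent.Lib.Helper22.DeltaMV

variable {C : Type u} [Category.{v} C] [Abelian C] {D : Type u'} [Category.{v'} D] [Abelian D]

section NatTrans

variable [HasInjectiveResolutions C] {F G : C ⥤ D} [F.Additive] [G.Additive] (α : F ⟶ G)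

/-- `NatTrans.rightDerived α` commutes with the connecting morphisms computed from a resolution. -/
theorem natTrans_delta {S : ShortComplex C} (T : RDer.SESRes S) (n₀ n₁ : ℕ) (h : n₀ + 1 = n₁) :
    (NatTrans.rightDerived α n₀).app S.X₃ ≫ T.delta G n₀ n₁ h =
      T.delta F n₀ n₁ h ≫ (NatTrans.rightDerived α n₁).app S.X₁ := by
  have e3 : (NatTrans.rightDerived α n₀).app S.X₃ ≫ (T.I₃.isoRightDerivedObj G n₀).hom =
      (T.I₃.isoRightDerivedObj F n₀).hom ≫
        (HomologicalComplex.homologyFunctor D (ComplexShape.up ℕ) n₀).map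
          ((NatTrans.mapHomologicalComplex α (ComplexShape.up ℕ)).app T.I₃.cocomplex) := by
    rw [InjectiveResolution.rightDerived_app_eq α T.I₃ n₀, Category.assoc, Category.assoc,
      Iso.inv_hom_id, Category.comp_id]
  have e1 : (T.I₁.isoRightDerivedObj F n₁).inv ≫ (NatTrans.rightDerived α n₁).app S.X₁ =
      (HomologicalComplex.homologyFunctor D (ComplexShape.up ℕ) n₁).map
          ((NatTrans.mapHomologicalComplex α (ComplexShape.up ℕ)).app T.I₁.cocomplex) ≫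
        (T.I₁.isoRightDerivedObj G n₁).inv := by
    rw [InjectiveResolution.rightDerived_app_eq α T.I₁ n₁, Iso.inv_hom_id_assoc]
  have eδ := HomologicalComplex.HomologySequence.δ_naturality
    (T.cx.mapNatTrans (NatTrans.mapHomologicalComplex α (ComplexShape.up ℕ)))
    (T.map_shortExact F) (T.map_shortExact G) n₀ n₁ h
  exact Horseshoe.comm_aux e3 e1 eδ

omit [Abelian C] [Abelian D] [HasInjectiveResolutions C] [F.Additive] [G.Additive] in
lemma trdz_aux {E : Type*} [Category E] {A A' B B' H H' R R' : E} (t : A ⟶ B) (π : B ⟶ H)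
    (i : R ≅ H) (hα : H ⟶ H') (i' : R' ≅ H') (a : A ⟶ A') (t' : A' ⟶ B') (π' : B' ⟶ H')
    (cm : B ⟶ B') (h1 : t ≫ cm = a ≫ t') (h2 : π ≫ hα = cm ≫ π') :
    (t ≫ π ≫ i.inv) ≫ (i.hom ≫ hα ≫ i'.inv) = a ≫ (t' ≫ π' ≫ i'.inv) := by
  simp only [Category.assoc, Iso.inv_hom_id_assoc]
  rw [reassoc_of% h2, reassoc_of% h1]

/-- Naturality of `toRightDerivedZero` in the functor. -/
theorem toRightDerivedZero_naturality :
    F.toRightDerivedZero ≫ NatTrans.rightDerived α 0 = α ≫ G.toRightDerivedZero := by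
  ext X
  let I := injectiveResolution X
  rw [NatTrans.comp_app, NatTrans.comp_app, I.toRightDerivedZero_eq F, I.toRightDerivedZero_eq G,
    InjectiveResolution.rightDerived_app_eq α I 0]
  have h1 : I.toRightDerivedZero' F ≫ HomologicalComplex.cyclesMap
      ((NatTrans.mapHomologicalComplex α (ComplexShape.up ℕ)).app I.cocomplex) 0 =
      α.app X ≫ I.toRightDerivedZero' G := by
    rw [← cancel_mono (HomologicalComplex.iCycles _ _), Category.assoc, Category.assoc,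
      HomologicalComplex.cyclesMap_i, InjectiveResolution.toRightDerivedZero'_comp_iCycles_assoc,
      InjectiveResolution.toRightDerivedZero'_comp_iCycles]
    exact α.naturality (I.ι.f 0)
  have h2 := HomologicalComplex.homologyπ_naturality
    ((NatTrans.mapHomologicalComplex α (ComplexShape.up ℕ)).app I.cocomplex) 0
  exact trdz_aux _ _ _ _ _ _ _ _ _ h1 h2

end NatTrans

variable [EnoughInjectives C]

section RD

/-- The right derived functors of `G`, as a δ-functor. -/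
noncomputable def RD (G : C ⥤ D) [G.Additive] : DeltaF.CohDeltaFunctor C D ℕ :=
  (Horseshoe.derivedLES G).toCohDeltaFunctor

lemma RD_F (G : C ⥤ D) [G.Additive] (n : ℕ) : (RD G).F n = G.rightDerived n := rfl

theorem RD_isUniversal (G : C ⥤ D) [G.Additive] : (RD G).IsUniversal := by
  apply Groth.Agent.Lib.Helper25.DeltaFEff.isUniversal
  intro n X
  let I := injectiveResolution X
  have hm : Mono (I.ι.f 0) := inferInstance
  refine ⟨I.cocomplex.X 0, (I.ι.f 0 : _), hm, ?_⟩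
  have hz : IsZero ((G.rightDerived (n + 1)).obj (I.cocomplex.X 0)) :=
    Functor.isZero_rightDerived_obj_injective_succ G n _
  exact hz.eq_of_tgt _ _

/-- A natural transformation induces a morphism of derived δ-functors. -/
noncomputable def RDmap {F G : C ⥤ D} [F.Additive] [G.Additive] (α : F ⟶ G) : RD F ⟶ RD G where
  app n := NatTrans.rightDerived α n
  comm S hS n₀ n₁ h := by
    obtain ⟨T⟩ := Horseshoe.nonempty_sesRes S hS
    change (Horseshoe.derivedLES F).δ S hS n₀ n₁ h ≫ _ = _ ≫ (Horseshoe.derivedLES G).δ S hS n₀ n₁ h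
    rw [(Horseshoe.derivedLES F).δ_eq S hS T, (Horseshoe.derivedLES G).δ_eq S hS T]
    exact (natTrans_delta α T n₀ n₁ h).symm

lemma RDmap_app {F G : C ⥤ D} [F.Additive] [G.Additive] (α : F ⟶ G) (n : ℕ) :
    (RDmap α).app n = NatTrans.rightDerived α n := rfl

end RD

section Theta

variable (T : DeltaF.CohDeltaFunctor C D ℕ) (hT : T.IsEffaceable) (hT0 : T.ZeroMono)

omit [EnoughInjectives C] in
include hT0 in
lemma preservesFiniteLimits_F0 : PreservesFiniteLimits (T.F 0) := by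
  rw [Functor.preservesFiniteLimits_iff_forall_exact_map_and_mono]
  intro S hS
  exact ⟨T.exact₂ S hS 0, hT0 S hS⟩

/-- The comparison isomorphism in degree `0`. -/
noncomputable def e0 : (RD (T.F 0)).F 0 ≅ T.F 0 :=
  haveI := preservesFiniteLimits_F0 T hT0
  (T.F 0).rightDerivedZeroIsoSelf

include hT in
lemma exists_θ : ∃ φ : RD (T.F 0) ≅ T, φ.hom.app 0 = (e0 T hT0).hom := by
  have hU := Groth.Agent.Lib.Helper25.DeltaFEff.isUniversal hT
  have hU' := RD_isUniversal (T.F 0)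
  obtain ⟨τ, hτ, hτu⟩ := hU' T (e0 T hT0).hom
  obtain ⟨τ', hτ', hτ'u⟩ := hU (RD (T.F 0)) (e0 T hT0).inv
  obtain ⟨i, -, hiu⟩ := hU' (RD (T.F 0)) (𝟙 _)
  obtain ⟨i', -, hi'u⟩ := hU T (𝟙 (T.F 0))
  have h1 : τ ≫ τ' = 𝟙 _ := by
    rw [hiu (τ ≫ τ') (by
        change (τ ≫ τ').app 0 = 𝟙 _
        rw [DeltaF.CohDeltaFunctor.comp_app, hτ, hτ', (e0 T hT0).hom_inv_id]),
      hiu (𝟙 _) (DeltaF.CohDeltaFunctor.id_app _ 0)]
  have h2 : τ' ≫ τ = 𝟙 T := by
    rw [hi'u (τ' ≫ τ) (by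
        change (τ' ≫ τ).app 0 = 𝟙 (T.F 0)
        rw [DeltaF.CohDeltaFunctor.comp_app, hτ, hτ', (e0 T hT0).inv_hom_id]),
      hi'u (𝟙 T) (DeltaF.CohDeltaFunctor.id_app T 0)]
  exact ⟨⟨τ, τ', h1, h2⟩, hτ⟩

/-- The comparison isomorphism of δ-functors. -/
noncomputable def θ : RD (T.F 0) ≅ T := (exists_θ T hT hT0).choose

lemma θ_hom_app_zero : (θ T hT hT0).hom.app 0 = (e0 T hT0).hom := (exists_θ T hT hT0).choose_spec

variable {T} {T' : DeltaF.CohDeltaFunctor C D ℕ} (hT' : T'.IsEffaceable) (hT'0 : T'.ZeroMono)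
  (α : T ⟶ T')

/-- Naturality of `θ`. -/
theorem θ_naturality : (θ T hT hT0).hom ≫ α = RDmap (α.app 0) ≫ (θ T' hT' hT'0).hom := by
  obtain ⟨τ, -, hτu⟩ := RD_isUniversal (T.F 0) T' ((e0 T hT0).hom ≫ α.app 0)
  have h1 := hτu ((θ T hT hT0).hom ≫ α) (by
    change ((θ T hT hT0).hom ≫ α).app 0 = _
    rw [DeltaF.CohDeltaFunctor.comp_app, θ_hom_app_zero])
  have h2 := hτu (RDmap (α.app 0) ≫ (θ T' hT' hT'0).hom) (by
    change (RDmap (α.app 0) ≫ (θ T' hT' hT'0).hom).app 0 = _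
    rw [DeltaF.CohDeltaFunctor.comp_app, θ_hom_app_zero, RDmap_app]
    haveI := preservesFiniteLimits_F0 T hT0
    haveI := preservesFiniteLimits_F0 T' hT'0
    change NatTrans.rightDerived (α.app 0) 0 ≫ (T'.F 0).rightDerivedZeroIsoSelf.hom =
      (T.F 0).rightDerivedZeroIsoSelf.hom ≫ α.app 0
    rw [← cancel_epi (T.F 0).toRightDerivedZero, ← Category.assoc,
      toRightDerivedZero_naturality, Category.assoc]
    have e1 : (T'.F 0).toRightDerivedZero ≫ (T'.F 0).rightDerivedZeroIsoSelf.hom = 𝟙 _ :=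
      (T'.F 0).rightDerivedZeroIsoSelf.inv_hom_id
    have e2 : (T.F 0).toRightDerivedZero ≫ (T.F 0).rightDerivedZeroIsoSelf.hom = 𝟙 _ :=
      (T.F 0).rightDerivedZeroIsoSelf.inv_hom_id
    rw [e1, reassoc_of% e2, Category.comp_id])
  rw [h1, h2]

lemma θ_naturality_app (n : ℕ) (X : C) :
    ((θ T hT hT0).hom.app n).app X ≫ (α.app n).app X =
      (NatTrans.rightDerived (α.app 0) n).app X ≫ ((θ T' hT' hT'0).hom.app n).app X := by
  have h := congrArg (fun φ : RD (T.F 0) ⟶ T' => (φ.app n).app X)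
    (θ_naturality hT hT0 hT' hT'0 α)
  exact h

/-- The component isomorphisms of `θ`. -/
noncomputable def θiso (T : DeltaF.CohDeltaFunctor C D ℕ) (hT : T.IsEffaceable) (hT0 : T.ZeroMono)
    (n : ℕ) (X : C) : ((T.F 0).rightDerived n).obj X ≅ (T.F n).obj X where
  hom := ((θ T hT hT0).hom.app n).app X
  inv := ((θ T hT hT0).inv.app n).app X
  hom_inv_id := by
    have h := congrArg (fun φ : RD (T.F 0) ⟶ RD (T.F 0) => (φ.app n).app X)
      (θ T hT hT0).hom_inv_id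
    exact h
  inv_hom_id := by
    have h := congrArg (fun φ : T ⟶ T => (φ.app n).app X) (θ T hT hT0).inv_hom_id
    exact h

end Theta

section Main

omit [EnoughInjectives C] [Abelian C] in
lemma exact_mk₂_transport {X₁ X₂ X₃ Y₁ Y₂ Y₃ : D}
    {f : X₁ ⟶ X₂} {g : X₂ ⟶ X₃} {f' : Y₁ ⟶ Y₂} {g' : Y₂ ⟶ Y₃}
    (h : (ComposableArrows.mk₂ f g).Exact) (e₁ : X₁ ≅ Y₁) (e₂ : X₂ ≅ Y₂) (e₃ : X₃ ≅ Y₃)
    (c₁ : f ≫ e₂.hom = e₁.hom ≫ f') (c₂ : g ≫ e₃.hom = e₂.hom ≫ g') :
    (ComposableArrows.mk₂ f' g').Exact :=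
  ComposableArrows.exact_of_iso (ComposableArrows.isoMk₂ e₁ e₂ e₃ c₁ c₂) h

omit [EnoughInjectives C] [Abelian C] in
lemma lift_map_comm {X X' A₁ A₂ A₁' A₂' : D} (a₁ : X ⟶ A₁) (a₂ : X ⟶ A₂) (a₁' : X' ⟶ A₁')
    (a₂' : X' ⟶ A₂') (e : X ⟶ X') (e₁ : A₁ ⟶ A₁') (e₂ : A₂ ⟶ A₂')
    (h₁ : a₁ ≫ e₁ = e ≫ a₁') (h₂ : a₂ ≫ e₂ = e ≫ a₂') :
    biprod.lift a₁ a₂ ≫ biprod.map e₁ e₂ = e ≫ biprod.lift a₁' a₂' := by
  ext
  · simp only [Category.assoc, biprod.map_fst, biprod.lift_fst_assoc, biprod.lift_fst, h₁]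
  · simp only [Category.assoc, biprod.map_snd, biprod.lift_snd_assoc, biprod.lift_snd, h₂]

omit [EnoughInjectives C] [Abelian C] in
lemma desc_map_comm {Z Z' A₁ A₂ A₁' A₂' : D} (b₁ : A₁ ⟶ Z) (b₂ : A₂ ⟶ Z) (b₁' : A₁' ⟶ Z')
    (b₂' : A₂' ⟶ Z') (e : Z ⟶ Z') (e₁ : A₁ ⟶ A₁') (e₂ : A₂ ⟶ A₂')
    (h₁ : b₁ ≫ e = e₁ ≫ b₁') (h₂ : b₂ ≫ e = e₂ ≫ b₂') :
    biprod.desc b₁ (-b₂) ≫ e = biprod.map e₁ e₂ ≫ biprod.desc b₁' (-b₂') := by
  ext
  · simp only [biprod.inl_desc_assoc, biprod.inl_map_assoc, biprod.inl_desc, h₁]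
  · simp only [biprod.inr_desc_assoc, biprod.inr_map_assoc, biprod.inr_desc, Preadditive.neg_comp,
      Preadditive.comp_neg, h₂]

variable {T_P T_1 T_2 T_R : DeltaF.CohDeltaFunctor C D ℕ}
  (hP : T_P.IsEffaceable) (hP0 : T_P.ZeroMono) (h1 : T_1.IsEffaceable) (h10 : T_1.ZeroMono)
  (h2 : T_2.IsEffaceable) (h20 : T_2.ZeroMono) (hR : T_R.IsEffaceable) (hR0 : T_R.ZeroMono)
  (α₁ : T_P ⟶ T_1) (α₂ : T_P ⟶ T_2) (β₁ : T_1 ⟶ T_R) (β₂ : T_2 ⟶ T_R)
  (hw : α₁.app 0 ≫ β₁.app 0 = α₂.app 0 ≫ β₂.app 0)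

include hP hP0 h1 h10 h2 h20 hR hR0 in
/-- **Mayer–Vietoris for effaceable δ-functors.** -/
theorem main
    (h : ∀ (I : C) [Injective I],
      (DerivedMV.sc (α₁.app 0) (α₂.app 0) (β₁.app 0) (β₂.app 0) hw I).ShortExact) (F : C) :
    ∃ δ : ∀ n : ℕ, (T_R.F n).obj F ⟶ (T_P.F (n + 1)).obj F,
      Mono (biprod.lift ((α₁.app 0).app F) ((α₂.app 0).app F)) ∧
      ∀ n : ℕ,
        (ComposableArrows.mk₂
          (biprod.lift ((α₁.app n).app F) ((α₂.app n).app F))
          (biprod.desc ((β₁.app n).app F) (-((β₂.app n).app F)))).Exact ∧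
        (ComposableArrows.mk₂
          (biprod.desc ((β₁.app n).app F) (-((β₂.app n).app F)))
          (δ n)).Exact ∧
        (ComposableArrows.mk₂ (δ n)
          (biprod.lift ((α₁.app (n + 1)).app F) ((α₂.app (n + 1)).app F))).Exact := by
  obtain ⟨δ', hm, hex⟩ := DerivedMV.main hw h F
  let eP := fun n => θiso T_P hP hP0 n F
  let e1 := fun n => θiso T_1 h1 h10 n F
  let e2 := fun n => θiso T_2 h2 h20 n F
  let eR := fun n => θiso T_R hR hR0 n F
  let eB := fun n => biprod.mapIso (e1 n) (e2 n)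
  have cA : ∀ n, biprod.lift ((NatTrans.rightDerived (α₁.app 0) n).app F)
      ((NatTrans.rightDerived (α₂.app 0) n).app F) ≫ (eB n).hom =
      (eP n).hom ≫ biprod.lift ((α₁.app n).app F) ((α₂.app n).app F) := fun n =>
    lift_map_comm _ _ _ _ _ _ _ (θ_naturality_app hP hP0 h1 h10 α₁ n F).symm
      (θ_naturality_app hP hP0 h2 h20 α₂ n F).symm
  have cB : ∀ n, biprod.desc ((NatTrans.rightDerived (β₁.app 0) n).app F)
      (-((NatTrans.rightDerived (β₂.app 0) n).app F)) ≫ (eR n).hom =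
      (eB n).hom ≫ biprod.desc ((β₁.app n).app F) (-((β₂.app n).app F)) := fun n =>
    desc_map_comm _ _ _ _ _ _ _ (θ_naturality_app h1 h10 hR hR0 β₁ n F).symm
      (θ_naturality_app h2 h20 hR hR0 β₂ n F).symm
  let δ : ∀ n : ℕ, (T_R.F n).obj F ⟶ (T_P.F (n + 1)).obj F := fun n =>
    (eR n).inv ≫ δ' n ≫ (eP (n + 1)).hom
  have cδ : ∀ n, δ' n ≫ (eP (n + 1)).hom = (eR n).hom ≫ δ n := fun n => by
    change _ = (eR n).hom ≫ (eR n).inv ≫ δ' n ≫ (eP (n + 1)).hom
    rw [Iso.hom_inv_id_assoc]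
  refine ⟨δ, ?_, fun n => ⟨?_, ?_, ?_⟩⟩
  · have : Mono ((eP 0).hom ≫ biprod.lift ((α₁.app 0).app F) ((α₂.app 0).app F)) := by
      rw [← cA 0]
      infer_instance
    have h3 : biprod.lift ((α₁.app 0).app F) ((α₂.app 0).app F) =
        (eP 0).inv ≫ ((eP 0).hom ≫ biprod.lift ((α₁.app 0).app F) ((α₂.app 0).app F)) := by
      rw [Iso.inv_hom_id_assoc]
    rw [h3]
    infer_instance
  · exact exact_mk₂_transport (hex n).1 (eP n) (eB n) (eR n) (cA n) (cB n)
  · exact exact_mk₂_transport (hex n).2.1 (eB n) (eR n) (eP (n + 1)) (cB n) (cδ n)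
  · exact exact_mk₂_transport (hex n).2.2 (eR n) (eP (n + 1)) (eB (n + 1)) (cδ n) (cA (n + 1))

end Main

end Groth.Agent.Lib.Helper22.DeltaMV
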