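import Mathlib.RingTheory.Flat.Equalizer
import Mathlib.RingTheory.Flat.Tensor
import Mathlib.LinearAlgebra.TensorProduct.Prod
import Mathlib.LinearAlgebra.TensorProduct.RightExactness

/-!
# Flatness of products and of kernels of surjections between flat modules
-/

set_option autoImplicit false
universe u v w

namespace Groth.Agent.Lib.Helper22

open TensorProduct

/-- A product of two flat modules is flat. -/
theorem flat_prod (R : Type u) (M : Type v) (N : Type w) [CommRing R] [AddCommGroup M]
    [AddCommGroup N] [Module R M] [Module R N] [Module.Flat R M] [Module.Flat R N] :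
    Module.Flat R (M × N) := by
  rw [Module.Flat.iff_lTensor_injective']
  intro I
  have h : (TensorProduct.prodLeft R R M N R).toLinearMap ∘ₗ (I.subtype.lTensor (M × N)) =
      (LinearMap.prodMap (I.subtype.lTensor M) (I.subtype.lTensor N)) ∘ₗ
        (TensorProduct.prodLeft R R M N I).toLinearMap := by
    ext <;> simp
  have h1 : Function.Injective ((LinearMap.prodMap (I.subtype.lTensor M) (I.subtype.lTensor N)) ∘ₗ
        (TensorProduct.prodLeft R R M N I).toLinearMap) := by
    rw [LinearMap.coe_comp]
    refine Function.Injective.comp ?_ (LinearEquiv.injective _)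
    rw [LinearMap.coe_prodMap]
    exact Function.Injective.prodMap
      (Module.Flat.lTensor_preserves_injective_linearMap _ Subtype.val_injective)
      (Module.Flat.lTensor_preserves_injective_linearMap _ Subtype.val_injective)
  rw [← h, LinearMap.coe_comp] at h1
  exact Function.Injective.of_comp h1

/-- In a short exact sequence `0 → K → F → Q → 0` with `F` and `Q` flat, `K` is flat. -/
theorem flat_of_exact_of_flat {R : Type u} {K : Type v} {F : Type w} {Q : Type*} [CommRing R]
    [AddCommGroup K] [AddCommGroup F] [AddCommGroup Q] [Module R K] [Module R F] [Module R Q]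
    [Module.Flat R F] [Module.Flat R Q]
    (g : K →ₗ[R] F) (f : F →ₗ[R] Q) (hg : Function.Injective g) (hf : Function.Surjective f)
    (H : Function.Exact g f) : Module.Flat R K := by
  rw [Module.Flat.iff_rTensor_injective']
  intro I
  -- `I ⊗ K → I ⊗ F` is injective since `Q` is flat
  have h1 : Function.Injective (g.lTensor I) :=
    LinearMap.lTensor_injective_of_exact_of_flat f hf g hg H I
  have h2 : Function.Injective (I.subtype.rTensor F) :=
    Module.Flat.rTensor_preserves_injective_linearMap _ Subtype.val_injective
  have h3 : (g.lTensor R) ∘ₗ (I.subtype.rTensor K) = (I.subtype.rTensor F) ∘ₗ (g.lTensor I) := by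
    ext; simp
  have h4 : Function.Injective ((I.subtype.rTensor F) ∘ₗ (g.lTensor I)) := by
    rw [LinearMap.coe_comp]; exact h2.comp h1
  rw [← h3, LinearMap.coe_comp] at h4
  exact Function.Injective.of_comp h4

end Groth.Agent.Lib.Helper22
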