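import Mathlib.Algebra.Homology.DerivedCategory.Ext.ExactSequences
import Mathlib.Algebra.Homology.DerivedCategory.Ext.EnoughInjectives
import Mathlib.GroupTheory.QuotientGroup.Basic

/-!
# Comparing `Ext` groups across a functor by dimension shifting
-/

set_option autoImplicit false
set_option linter.unusedSectionVars false

universe w w' v v' u u'

open CategoryTheory Limits Abelian

namespace Groth.Agent.Lib.Helper22.ExtCompare

section general

variable {𝒞 : Type u} [Category.{v} 𝒞] [Abelian 𝒞] [HasExt.{w} 𝒞]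

/-- The short complex `0 → F → I → I/F → 0` with `I` the chosen injective hull. -/
noncomputable abbrev injSC [EnoughInjectives 𝒞] (F : 𝒞) : ShortComplex 𝒞 :=
  ShortComplex.mk (Injective.ι F) (cokernel.π (Injective.ι F)) (cokernel.condition _)

lemma injSC_shortExact [EnoughInjectives 𝒞] (F : 𝒞) : (injSC F).ShortExact :=
  { exact := ShortComplex.exact_cokernel _ }

instance [EnoughInjectives 𝒞] (F : 𝒞) : Injective (injSC F).X₂ :=
  inferInstanceAs (Injective (Injective.under F))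

variable {S : ShortComplex 𝒞} (hS : S.ShortExact) (P : 𝒞)

/-- If `Ext^{n+1}(P, B) = Ext^{n+2}(P, B) = 0`, the connecting map
`Ext^{n+1}(P, C) → Ext^{n+2}(P, A)` is an isomorphism. -/
noncomputable def shiftEquiv (n : ℕ) (h1 : ∀ x : Ext P S.X₂ (n + 1), x = 0)
    (h2 : ∀ x : Ext P S.X₂ (n + 2), x = 0) : Ext P S.X₃ (n + 1) ≃+ Ext P S.X₁ (n + 2) :=
  AddEquiv.ofBijective (hS.extClass.postcomp P (rfl : n + 1 + 1 = n + 2)) (by
    constructor
    · rw [injective_iff_map_eq_zero]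
      intro x hx
      obtain ⟨y, hy⟩ := Ext.covariant_sequence_exact₃ P hS x rfl hx
      rw [← hy, h1 y, Ext.zero_comp]
    · intro x
      obtain ⟨y, hy⟩ := Ext.covariant_sequence_exact₁ P hS x (h2 _) rfl
      exact ⟨y, hy⟩)

/-- The range of `Hom(P, B) → Hom(P, C)` inside `Ext⁰`. -/
noncomputable abbrev rangeG : AddSubgroup (Ext P S.X₃ 0) :=
  ((Ext.mk₀ S.g).postcomp P (add_zero 0)).range

/-- If `Ext^1(P, B) = 0` then `Ext^1(P, A)` is the cokernel of `Hom(P, B) → Hom(P, C)`. -/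
noncomputable def oneEquiv (h1 : ∀ x : Ext P S.X₂ 1, x = 0) :
    (Ext P S.X₃ 0 ⧸ rangeG (S := S) P) ≃+ Ext P S.X₁ 1 := by
  let δ : Ext P S.X₃ 0 →+ Ext P S.X₁ 1 := hS.extClass.postcomp P (zero_add 1)
  have hsurj : Function.Surjective δ := by
    intro x
    obtain ⟨y, hy⟩ := Ext.covariant_sequence_exact₁ P hS x (h1 _) (zero_add 1)
    exact ⟨y, hy⟩
  have hker : rangeG (S := S) P = δ.ker := by
    ext x
    constructor
    · rintro ⟨y, rfl⟩
      change (y.comp (Ext.mk₀ S.g) (add_zero 0)).comp hS.extClass (zero_add 1) = 0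
      rw [Ext.comp_assoc_of_second_deg_zero, hS.comp_extClass, Ext.comp_zero]
    · intro hx
      obtain ⟨y, hy⟩ := Ext.covariant_sequence_exact₃ P hS x (zero_add 1) hx
      exact ⟨y, hy⟩
  exact (QuotientAddGroup.quotientAddEquivOfEq hker).trans
    (QuotientAddGroup.quotientKerEquivOfSurjective δ hsurj)

end general

section compare

variable {𝒜 : Type u} [Category.{v} 𝒜] [Abelian 𝒜] [HasExt.{w} 𝒜] [EnoughInjectives 𝒜]
  {ℬ : Type u'} [Category.{v'} ℬ] [Abelian ℬ] [HasExt.{w'} ℬ]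
  (Φ : 𝒜 ⥤ ℬ) (P : 𝒜) (P' : ℬ)

/-- A natural identification `Hom(P, G) ≃ Hom(P', Φ G)`. -/
structure Deg0Iso where
  /-- the isomorphism -/
  e : ∀ G : 𝒜, Ext P G 0 ≃+ Ext P' (Φ.obj G) 0
  nat : ∀ {G G' : 𝒜} (g : G ⟶ G') (x : Ext P G 0),
    e G' (x.comp (Ext.mk₀ g) (add_zero 0)) = (e G x).comp (Ext.mk₀ (Φ.map g)) (add_zero 0)

variable {Φ P P'}

theorem nonempty_ext_addEquiv [Φ.PreservesZeroMorphisms] (d : Deg0Iso Φ P P') (good : 𝒜 → Prop)
    (h1 : ∀ F, good F → ((injSC F).map Φ).ShortExact)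
    (h2 : ∀ F, good F → good (injSC F).X₃)
    (h3 : ∀ F, good F → ∀ (n : ℕ) (x : Ext P' (Φ.obj (injSC F).X₂) (n + 1)), x = 0) :
    ∀ (n : ℕ) (F : 𝒜), good F → Nonempty (Ext P F n ≃+ Ext P' (Φ.obj F) n) := by
  have hinj : ∀ (F : 𝒜) (n : ℕ) (x : Ext P (injSC F).X₂ (n + 1)), x = 0 :=
    fun F n x => Ext.eq_zero_of_injective x
  intro n
  induction n using Nat.strong_induction_on with
  | _ n ih =>
    intro F hF
    match n, ih with
    | 0, _ => exact ⟨d.e F⟩
    | 1, _ =>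
      have e1 := oneEquiv (injSC_shortExact F) P (hinj F 0)
      have e2 := oneEquiv (h1 F hF) P' (h3 F hF 0)
      have hmap : (rangeG (S := injSC F) P).map (d.e (injSC F).X₃).toAddMonoidHom =
          rangeG (S := (injSC F).map Φ) P' := by
        ext y
        constructor
        · rintro ⟨_, ⟨x, rfl⟩, rfl⟩
          refine ⟨d.e _ x, ?_⟩
          exact (d.nat (injSC F).g x).symm
        · rintro ⟨z, rfl⟩
          obtain ⟨x, rfl⟩ := (d.e (injSC F).X₂).surjective z
          refine ⟨_, ⟨x, rfl⟩, ?_⟩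
          exact d.nat (injSC F).g x
      exact ⟨e1.symm.trans ((QuotientAddGroup.congr _ _ (d.e (injSC F).X₃) hmap).trans e2)⟩
    | n + 2, ih =>
      have e1 := shiftEquiv (injSC_shortExact F) P n (hinj F n) (hinj F (n + 1))
      have e2 := shiftEquiv (h1 F hF) P' n (h3 F hF n) (h3 F hF (n + 1))
      obtain ⟨e⟩ := ih (n + 1) (by omega) (injSC F).X₃ (h2 F hF)
      exact ⟨e1.symm.trans (e.trans e2)⟩

end compare

end Groth.Agent.Lib.Helper22.ExtCompare
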