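import Mathlib.CategoryTheory.Abelian.RightDerived
import Mathlib.Algebra.Homology.Augment

/-!
# Dimension shifting for `Functor.rightDerived`

For a short exact sequence `0 → A → I → Q → 0` with `I` injective, an injective resolution of `Q`
spliced with `I` gives an injective resolution of `A`.  Consequently
`R^{n+2}G(A) = 0 ↔ R^{n+1}G(Q) = 0` and, for left exact `G`, `R^1G(A) = 0 ↔ G(I) → G(Q)` is epi.
-/

set_option autoImplicit false
set_option linter.unusedSectionVars false

universe v v' u u'

open CategoryTheory Limits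

namespace Groth.Agent.Lib.Helper22.DimShift

variable {C : Type u} [Category.{v} C] [Abelian C]

section splice

variable (S : ShortComplex C) (hS : S.ShortExact) [Injective S.X₂] (J : InjectiveResolution S.X₃)

/-- The augmentation `Q → J⁰`. -/
noncomputable def ι0 {Z : C} (J : InjectiveResolution Z) : Z ⟶ J.cocomplex.X 0 := J.ι.f 0

lemma ι0_comp_d {Z : C} (J : InjectiveResolution Z) : ι0 J ≫ J.cocomplex.d 0 1 = 0 :=
  J.ι_f_zero_comp_complex_d

instance {Z : C} (J : InjectiveResolution Z) : Mono (ι0 J) :=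
  inferInstanceAs (Mono (J.ι.f 0))

lemma ι0_exact {Z : C} (J : InjectiveResolution Z) :
    (ShortComplex.mk (ι0 J) (J.cocomplex.d 0 1) (ι0_comp_d J)).Exact :=
  ShortComplex.exact_of_f_is_kernel _ J.isLimitKernelFork

/-- The first differential `I → J⁰`. -/
noncomputable abbrev d0 : S.X₂ ⟶ J.cocomplex.X 0 := S.g ≫ ι0 J

lemma d0_comp : d0 S J ≫ J.cocomplex.d 0 1 = 0 := by
  rw [Category.assoc, ι0_comp_d, comp_zero]

/-- The spliced complex `I → J⁰ → J¹ → ⋯`. -/
noncomputable abbrev spliceComplex : CochainComplex C ℕ :=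
  J.cocomplex.augment (d0 S J) (d0_comp S J)

instance (n : ℕ) : Injective ((spliceComplex S J).X n) := by
  cases n with
  | zero => exact inferInstanceAs (Injective S.X₂)
  | succ n => exact inferInstanceAs (Injective (J.cocomplex.X n))

lemma f_comp_d : S.f ≫ (spliceComplex S J).d 0 1 = 0 := by
  change S.f ≫ S.g ≫ ι0 J = 0
  rw [S.zero_assoc, zero_comp]

include hS in
lemma spliceComplex_exactAt_succ (n : ℕ) : (spliceComplex S J).ExactAt (n + 1) := by
  rw [HomologicalComplex.exactAt_iff' _ n (n + 1) (n + 1 + 1) (by simp) (by simp)]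
  cases n with
  | zero =>
    -- `I → J⁰ → J¹` is exact since `Q → J⁰ → J¹` is and `I → Q` is epi
    have hJ := ι0_exact J
    have : Epi S.g := hS.epi_g
    let φ : ShortComplex.mk (d0 S J) (J.cocomplex.d 0 1) (d0_comp S J) ⟶
        ShortComplex.mk (ι0 J) (J.cocomplex.d 0 1) (ι0_comp_d J) :=
      { τ₁ := S.g
        τ₂ := 𝟙 _
        τ₃ := 𝟙 _ }
    have : Epi φ.τ₁ := inferInstanceAs (Epi S.g)
    have : IsIso φ.τ₂ := inferInstanceAs (IsIso (𝟙 _))
    have : Mono φ.τ₃ := inferInstanceAs (Mono (𝟙 _))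
    exact (ShortComplex.exact_iff_of_epi_of_isIso_of_mono φ).2 hJ
  | succ n => exact J.exact_succ n

/-- The augmentation of the spliced resolution. -/
noncomputable def spliceι : (CochainComplex.single₀ C).obj S.X₁ ⟶ spliceComplex S J :=
  (CochainComplex.fromSingle₀Equiv _ _).symm ⟨S.f, f_comp_d S J⟩

lemma spliceι_f_zero : (spliceι S J).f 0 = S.f :=
  CochainComplex.fromSingle₀Equiv_symm_apply_f_zero _ _

/-- The spliced injective resolution of `A = S.X₁`. -/
noncomputable def splice : InjectiveResolution S.X₁ where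
  cocomplex := spliceComplex S J
  ι := spliceι S J
  quasiIso := ⟨fun n => by
    cases n with
    | zero =>
      rw [CochainComplex.quasiIsoAt₀_iff, ShortComplex.quasiIso_iff_of_zeros]
      · have hmono : Mono S.f := hS.mono_f
        refine ⟨?_, ?_⟩
        · -- `A → I → J⁰` is exact
          let φ : S ⟶ ShortComplex.mk S.f (d0 S J) (by rw [S.zero_assoc, zero_comp]) :=
            { τ₁ := 𝟙 _
              τ₂ := 𝟙 _
              τ₃ := ι0 J }
          have : Epi φ.τ₁ := inferInstanceAs (Epi (𝟙 _))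
          have : IsIso φ.τ₂ := inferInstanceAs (IsIso (𝟙 _))
          have : Mono φ.τ₃ := inferInstanceAs (Mono (ι0 J))
          have h := (ShortComplex.exact_iff_of_epi_of_isIso_of_mono φ).1 hS.exact
          refine (ShortComplex.exact_iff_of_iso ?_).1 h
          refine ShortComplex.isoMk (Iso.refl _) (Iso.refl _) (Iso.refl _) ?_ ?_
          · change 𝟙 S.X₁ ≫ (spliceι S J).f 0 = S.f ≫ 𝟙 S.X₂
            rw [spliceι_f_zero, Category.id_comp, Category.comp_id]
          · change 𝟙 S.X₂ ≫ d0 S J = (S.g ≫ ι0 J) ≫ 𝟙 (J.cocomplex.X 0)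
            rw [Category.id_comp, Category.comp_id]
        · change Mono ((spliceι S J).f 0)
          rw [spliceι_f_zero]
          exact hmono
      all_goals rfl
    | succ n =>
      rw [quasiIsoAt_iff_exactAt]
      · exact spliceComplex_exactAt_succ S hS J n
      · exact CochainComplex.exactAt_succ_single_obj _ _⟩

end splice

section derived

variable {D : Type u'} [Category.{v'} D] [Abelian D] (G : C ⥤ D) [G.Additive]
  [HasInjectiveResolutions C]
  (S : ShortComplex C) (hS : S.ShortExact) [Injective S.X₂]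

include hS in
/-- Dimension shifting: `R^{n+2}G(A) = 0 ↔ R^{n+1}G(Q) = 0`. -/
theorem isZero_rightDerived_succ_succ_iff (n : ℕ) :
    IsZero ((G.rightDerived (n + 2)).obj S.X₁) ↔ IsZero ((G.rightDerived (n + 1)).obj S.X₃) := by
  let J : InjectiveResolution S.X₃ := Classical.choice (HasInjectiveResolution.out)
  rw [((splice S hS J).isoRightDerivedObj G (n + 2)).isZero_iff,
    (J.isoRightDerivedObj G (n + 1)).isZero_iff]
  erw [← HomologicalComplex.exactAt_iff_isZero_homology,
    ← HomologicalComplex.exactAt_iff_isZero_homology]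
  rw [HomologicalComplex.exactAt_iff' _ (n + 1) (n + 2) (n + 3) (by simp) (by simp),
    HomologicalComplex.exactAt_iff' _ n (n + 1) (n + 2) (by simp) (by simp)]
  exact Iff.rfl

include hS in
/-- For a left exact functor, `R^1G(A) = 0` iff `G(I) → G(Q)` is an epimorphism. -/
theorem isZero_rightDerived_one_iff [PreservesFiniteLimits G] :
    IsZero ((G.rightDerived 1).obj S.X₁) ↔ Epi (G.map S.g) := by
  let J : InjectiveResolution S.X₃ := Classical.choice (HasInjectiveResolution.out)
  rw [((splice S hS J).isoRightDerivedObj G 1).isZero_iff]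
  erw [← HomologicalComplex.exactAt_iff_isZero_homology]
  rw [HomologicalComplex.exactAt_iff' _ 0 1 2 (by simp) (by simp)]
  -- the kernel of `G(J⁰) → G(J¹)` is `G(Q)`
  have hk : IsLimit (KernelFork.ofι (G.map (ι0 J))
      (by rw [← G.map_comp, ι0_comp_d, G.map_zero] : G.map (ι0 J) ≫ G.map (J.cocomplex.d 0 1) = 0)) :=
    KernelFork.mapIsLimit J.kernelFork J.isLimitKernelFork G
  have w' : G.map (ι0 J) ≫ G.map (J.cocomplex.d 0 1) = 0 := by
    rw [← G.map_comp, ι0_comp_d, G.map_zero]
  have w : G.map (d0 S J) ≫ G.map (J.cocomplex.d 0 1) = 0 := by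
    rw [← G.map_comp, d0_comp, G.map_zero]
  let T : ShortComplex D := ShortComplex.mk (G.map (d0 S J)) (G.map (J.cocomplex.d 0 1)) w
  let T' : ShortComplex D := ShortComplex.mk (G.map (ι0 J)) (G.map (J.cocomplex.d 0 1)) w'
  have hT' : T'.Exact := ShortComplex.exact_of_f_is_kernel _ hk
  change T.Exact ↔ _
  constructor
  · intro hT
    have h1 : Epi (kernel.lift T.g T.f T.zero) := hT.epi_kernelLift
    let e : G.obj S.X₃ ≅ kernel T.g :=
      IsLimit.conePointUniqueUpToIso hk (limit.isLimit (parallelPair T.g 0))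
    have he : e.hom ≫ kernel.ι T.g = G.map (ι0 J) :=
      IsLimit.conePointUniqueUpToIso_hom_comp hk (limit.isLimit (parallelPair T.g 0))
        WalkingParallelPair.zero
    have h2 : kernel.lift T.g T.f T.zero = G.map S.g ≫ e.hom := by
      rw [← cancel_mono (kernel.ι T.g), kernel.lift_ι, Category.assoc, he, ← G.map_comp]
    rw [h2] at h1
    have h3 : G.map S.g = (G.map S.g ≫ e.hom) ≫ e.inv := by simp
    rw [h3]
    infer_instance
  · intro hepi
    let φ : T ⟶ T' :=
      { τ₁ := G.map S.g
        τ₂ := 𝟙 _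
        τ₃ := 𝟙 _
        comm₁₂ := by
          change G.map S.g ≫ G.map (ι0 J) = G.map (d0 S J) ≫ 𝟙 _
          rw [Category.comp_id, ← G.map_comp] }
    have : Epi φ.τ₁ := hepi
    have : IsIso φ.τ₂ := inferInstanceAs (IsIso (𝟙 _))
    have : Mono φ.τ₃ := inferInstanceAs (Mono (𝟙 _))
    exact (ShortComplex.exact_iff_of_epi_of_isIso_of_mono φ).2 hT'

end derived

end Groth.Agent.Lib.Helper22.DimShift
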