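import Groth.Agent.Lib.Helper22.DimShift

/-!
# Dimension shifting isomorphisms and the degenerate Grothendieck spectral sequence

For `0 → A → I → Q → 0` with `I` injective:
* `rightDerivedSuccSuccIso`: `R^{n+2}G(A) ≅ R^{n+1}G(Q)`;
* `rightDerivedOneIso`: `R^1G(A) ≅ coker (G(I) → G(Q))` for left exact `G`.

`nonempty_rightDerived_comp_iso`: if `G` preserves injectives and `A` is `G`-acyclic then
`R^pH(G A) ≅ R^p(G ⋙ H)(A)`.
-/

set_option autoImplicit false
set_option linter.unusedSectionVars false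

universe v v' v'' u u' u''

open CategoryTheory Limits

namespace Groth.Agent.Lib.Helper22.DimShift

variable {C : Type u} [Category.{v} C] [Abelian C]
  {D : Type u'} [Category.{v'} D] [Abelian D] (G : C ⥤ D) [G.Additive]
  [HasInjectiveResolutions C]
  (S : ShortComplex C) (hS : S.ShortExact) [Injective S.X₂]

/-- Dimension shifting isomorphism `R^{n+2}G(A) ≅ R^{n+1}G(Q)`. -/
noncomputable def rightDerivedSuccSuccIso (n : ℕ) :
    (G.rightDerived (n + 2)).obj S.X₁ ≅ (G.rightDerived (n + 1)).obj S.X₃ := by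
  let J : InjectiveResolution S.X₃ := Classical.choice (HasInjectiveResolution.out)
  let K₁ := (G.mapHomologicalComplex (ComplexShape.up ℕ)).obj (splice S hS J).cocomplex
  let K₂ := (G.mapHomologicalComplex (ComplexShape.up ℕ)).obj J.cocomplex
  let e₁ : K₁.sc (n + 2) ≅ K₁.sc' (n + 1) (n + 2) (n + 3) :=
    K₁.isoSc' (n + 1) (n + 2) (n + 3) (by simp) (by simp)
  let e₂ : K₂.sc (n + 1) ≅ K₂.sc' n (n + 1) (n + 2) :=
    K₂.isoSc' n (n + 1) (n + 2) (by simp) (by simp)
  let e₃ : K₁.sc' (n + 1) (n + 2) (n + 3) ≅ K₂.sc' n (n + 1) (n + 2) := Iso.refl _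
  exact ((splice S hS J).isoRightDerivedObj G (n + 2)) ≪≫
    ShortComplex.homologyMapIso (e₁ ≪≫ e₃ ≪≫ e₂.symm) ≪≫ (J.isoRightDerivedObj G (n + 1)).symm

section one

variable [PreservesFiniteLimits G] (J : InjectiveResolution S.X₃)

lemma map_ι0_comp : G.map (ι0 J) ≫ G.map (J.cocomplex.d 0 1) = 0 := by
  rw [← G.map_comp, ι0_comp_d, G.map_zero]

lemma map_d0_comp : G.map (d0 S J) ≫ G.map (J.cocomplex.d 0 1) = 0 := by
  rw [← G.map_comp, d0_comp, G.map_zero]

/-- `G(Q)` is the kernel of `G(J⁰) → G(J¹)`. -/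
noncomputable def isLimitMapι0 :
    IsLimit (KernelFork.ofι (G.map (ι0 J)) (map_ι0_comp G S J)) :=
  KernelFork.mapIsLimit J.kernelFork J.isLimitKernelFork G

/-- The short complex `G(I) → G(J⁰) → G(J¹)`. -/
noncomputable abbrev scOne : ShortComplex D :=
  ShortComplex.mk (G.map (d0 S J)) (G.map (J.cocomplex.d 0 1)) (map_d0_comp G S J)

lemma lift_eq :
    (isLimitMapι0 G S J).lift (KernelFork.ofι (scOne G S J).f (scOne G S J).zero) = G.map S.g := by
  apply Fork.IsLimit.hom_ext (isLimitMapι0 G S J)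
  rw [Fork.IsLimit.lift_ι]
  change G.map (d0 S J) = G.map S.g ≫ G.map (ι0 J)
  rw [← G.map_comp]

/-- Left homology data for `G(I) → G(J⁰) → G(J¹)` with homology `coker (G(I) → G(Q))`. -/
noncomputable def leftHomologyDataOne : (scOne G S J).LeftHomologyData where
  K := G.obj S.X₃
  H := cokernel (G.map S.g)
  i := G.map (ι0 J)
  π := cokernel.π (G.map S.g)
  wi := map_ι0_comp G S J
  hi := isLimitMapι0 G S J
  wπ := by
    rw [lift_eq, cokernel.condition]
  hπ := CokernelCofork.IsColimit.ofπ _ _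
    (fun k hk' => cokernel.desc (G.map S.g) k (by rw [← lift_eq G S J]; exact hk'))
    (fun k hk' => cokernel.π_desc _ _ _)
    (fun k hk' m hm => by
      apply coequalizer.hom_ext
      rw [cokernel.π_desc]
      exact hm)

end one

/-- For left exact `G`: `R^1G(A) ≅ coker (G(I) → G(Q))`. -/
noncomputable def rightDerivedOneIso [PreservesFiniteLimits G] :
    (G.rightDerived 1).obj S.X₁ ≅ cokernel (G.map S.g) := by
  let J : InjectiveResolution S.X₃ := Classical.choice (HasInjectiveResolution.out)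
  let K₁ := (G.mapHomologicalComplex (ComplexShape.up ℕ)).obj (splice S hS J).cocomplex
  let e₁ : K₁.sc 1 ≅ K₁.sc' 0 1 2 := K₁.isoSc' 0 1 2 (by simp) (by simp)
  let e₃ : K₁.sc' 0 1 2 ≅ scOne G S J := Iso.refl _
  exact ((splice S hS J).isoRightDerivedObj G 1) ≪≫
    ShortComplex.homologyMapIso (e₁ ≪≫ e₃) ≪≫ (leftHomologyDataOne G S J).homologyIso

section comp

variable {𝒜 : Type u} [Category.{v} 𝒜] [Abelian 𝒜] [EnoughInjectives 𝒜]
  {ℬ : Type u'} [Category.{v'} ℬ] [Abelian ℬ] [EnoughInjectives ℬ]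
  {𝒞 : Type u''} [Category.{v''} 𝒞] [Abelian 𝒞]

/-- The short complex `0 → A → I → I/A → 0` with `I` the chosen injective hull. -/
noncomputable abbrev injSC (A : 𝒜) : ShortComplex 𝒜 :=
  ShortComplex.mk (Injective.ι A) (cokernel.π (Injective.ι A)) (cokernel.condition _)

lemma injSC_shortExact (A : 𝒜) : (injSC A).ShortExact :=
  { exact := ShortComplex.exact_cokernel _ }

instance (A : 𝒜) : Injective (injSC A).X₂ :=
  inferInstanceAs (Injective (Injective.under A))

variable (G : 𝒜 ⥤ ℬ) [G.Additive] [PreservesFiniteLimits G]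
  (H : ℬ ⥤ 𝒞) [H.Additive] [PreservesFiniteLimits H]
  (K : 𝒜 ⥤ 𝒞) [K.Additive] (e : G ⋙ H ≅ K)
  (hG : ∀ I : 𝒜, Injective I → Injective (G.obj I))

/-- A left exact functor maps a short exact sequence to a short exact one as soon as it keeps the
epimorphism. -/
lemma shortExact_map_of_epi' {S : ShortComplex 𝒜} (hS : S.ShortExact)
    (hepi : Epi (G.map S.g)) : (S.map G).ShortExact := by
  have hm : Mono S.f := hS.mono_f
  have h1 : (S.map G).Exact := hS.exact.map_of_mono_of_preservesKernel G hm inferInstance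
  have h2 : Mono (S.map G).f := inferInstanceAs (Mono (G.map S.f))
  exact ShortComplex.ShortExact.mk' h1 h2 hepi

include e hG in
/-- **Degenerate Grothendieck spectral sequence.**  If `G` preserves injectives and `A` is
`G`-acyclic, then `R^pH(G A) ≅ R^p(G ⋙ H)(A)`. -/
theorem nonempty_rightDerived_comp_iso (p : ℕ) (A : 𝒜)
    (hA : ∀ q : ℕ, IsZero ((G.rightDerived (q + 1)).obj A)) :
    Nonempty ((H.rightDerived p).obj (G.obj A) ≅ (K.rightDerived p).obj A) := by
  have : PreservesFiniteLimits (G ⋙ H) := comp_preservesFiniteLimits G H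
  have : PreservesFiniteLimits K := preservesFiniteLimits_of_natIso e
  -- the dimension shifting data
  have hSES : ∀ A : 𝒜, (∀ q : ℕ, IsZero ((G.rightDerived (q + 1)).obj A)) →
      ((injSC A).map G).ShortExact ∧
        ∀ q : ℕ, IsZero ((G.rightDerived (q + 1)).obj (injSC A).X₃) := by
    intro A hA
    refine ⟨shortExact_map_of_epi' G (injSC_shortExact A)
      ((isZero_rightDerived_one_iff G (injSC A) (injSC_shortExact A)).1 (hA 0)), fun q => ?_⟩
    exact (isZero_rightDerived_succ_succ_iff G (injSC A) (injSC_shortExact A) q).1 (hA (q + 1))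
  cases p with
  | zero =>
    exact ⟨H.rightDerivedZeroIsoSelf.app (G.obj A) ≪≫ e.app A ≪≫
      (K.rightDerivedZeroIsoSelf.app A).symm⟩
  | succ p =>
    induction p generalizing A with
    | zero =>
      obtain ⟨hex, -⟩ := hSES A hA
      have : Injective ((injSC A).map G).X₂ := hG _ (inferInstanceAs (Injective (injSC A).X₂))
      have e1 := rightDerivedOneIso H ((injSC A).map G) hex
      have e2 := rightDerivedOneIso K (injSC A) (injSC_shortExact A)
      have e3 : cokernel (H.map ((injSC A).map G).g) ≅ cokernel (K.map (injSC A).g) :=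
        cokernel.mapIso _ _ (e.app _) (e.app _) (e.hom.naturality (injSC A).g)
      exact ⟨e1 ≪≫ e3 ≪≫ e2.symm⟩
    | succ p ih =>
      obtain ⟨hex, hQ⟩ := hSES A hA
      have : Injective ((injSC A).map G).X₂ := hG _ (inferInstanceAs (Injective (injSC A).X₂))
      have e1 := rightDerivedSuccSuccIso H ((injSC A).map G) hex p
      have e2 := rightDerivedSuccSuccIso K (injSC A) (injSC_shortExact A) p
      obtain ⟨e3⟩ := ih (injSC A).X₃ hQ
      exact ⟨e1 ≪≫ e3 ≪≫ e2.symm⟩

end comp

end Groth.Agent.Lib.Helper22.DimShift
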