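import Groth.Agent.Lib.Helper22.ExtCompare

/-!
# Four-term exact sequences and `Hom(P, -)`

For an exact sequence `0 → K → A → B → C → 0` with `Ext¹(P,K) = Ext²(P,K) = Ext¹(P,A) = 0`, the
sequence `Hom(P,A) → Hom(P,B) → Hom(P,C) → 0` is exact.
-/

set_option autoImplicit false
set_option linter.unusedSectionVars false

universe w v u

open CategoryTheory Limits Abelian

namespace Groth.Agent.Lib.Helper22.ExtCompare

variable {𝒞 : Type u} [Category.{v} 𝒞] [Abelian 𝒞] [HasExt.{w} 𝒞]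

section ses

variable {S : ShortComplex 𝒞} (hS : S.ShortExact) (P : 𝒞)

include hS in
lemma ext_eq_zero_X₃ (n : ℕ) (h2 : ∀ x : Ext P S.X₂ n, x = 0)
    (h1 : ∀ x : Ext P S.X₁ (n + 1), x = 0) : ∀ x : Ext P S.X₃ n, x = 0 := by
  intro x
  obtain ⟨y, hy⟩ := Ext.covariant_sequence_exact₃ P hS x rfl (h1 _)
  rw [← hy, h2 y, Ext.zero_comp]

include hS in
lemma ext_eq_zero_X₂ (n : ℕ) (h1 : ∀ x : Ext P S.X₁ n, x = 0)
    (h3 : ∀ x : Ext P S.X₃ n, x = 0) : ∀ x : Ext P S.X₂ n, x = 0 := by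
  intro x
  obtain ⟨y, hy⟩ := Ext.covariant_sequence_exact₂ P hS x (h3 _)
  rw [← hy, h1 y, Ext.zero_comp]

end ses

namespace FourTerm

variable {K A B C : 𝒞} (i : K ⟶ A) (φ : A ⟶ B) (π : B ⟶ C) [Mono i] [Epi π]
    (w₁ : i ≫ φ = 0) (w₂ : φ ≫ π = 0) (h₁ : (ShortComplex.mk i φ w₁).Exact)
    (h₂ : (ShortComplex.mk φ π w₂).Exact)

/-- `A → M = ker π`. -/
noncomputable abbrev e : A ⟶ kernel π := kernel.lift π φ w₂

lemma e_ι : e φ π w₂ ≫ kernel.ι π = φ := kernel.lift_ι _ _ _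

include w₁ in
lemma wa : i ≫ e φ π w₂ = 0 := by
  rw [← cancel_mono (kernel.ι π), Category.assoc, e_ι, w₁, zero_comp]

/-- `0 → M → B → C → 0`. -/
noncomputable abbrev Sb : ShortComplex 𝒞 := ShortComplex.mk (kernel.ι π) π (kernel.condition π)

/-- `0 → K → A → M → 0`. -/
noncomputable abbrev Sa : ShortComplex 𝒞 := ShortComplex.mk i (e φ π w₂) (wa i φ π w₁ w₂)

lemma shortExact_b : (Sb π).ShortExact :=
  { exact := ShortComplex.exact_of_f_is_kernel _ (kernelIsKernel π) }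

include h₁ h₂ in
lemma shortExact_a : (Sa i φ π w₁ w₂).ShortExact := by
  have hepi : Epi (e φ π w₂) := h₂.epi_kernelLift
  refine { exact := ?_ }
  let ψ : Sa i φ π w₁ w₂ ⟶ ShortComplex.mk i φ w₁ :=
    { τ₁ := 𝟙 _
      τ₂ := 𝟙 _
      τ₃ := kernel.ι π
      comm₂₃ := by
        change 𝟙 A ≫ φ = e φ π w₂ ≫ kernel.ι π
        rw [e_ι, Category.id_comp] }
  have : Epi ψ.τ₁ := inferInstanceAs (Epi (𝟙 _))
  have : IsIso ψ.τ₂ := inferInstanceAs (IsIso (𝟙 _))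
  have : Mono ψ.τ₃ := inferInstanceAs (Mono (kernel.ι π))
  exact (ShortComplex.exact_iff_of_epi_of_isIso_of_mono ψ).2 h₁

include h₁ h₂ in
theorem hom_exact (P : 𝒞)
    (hK1 : ∀ x : Ext P K 1, x = 0) (hK2 : ∀ x : Ext P K 2, x = 0)
    (hA1 : ∀ x : Ext P A 1, x = 0) :
    (∀ t : P ⟶ C, ∃ s : P ⟶ B, s ≫ π = t) ∧
      (∀ s : P ⟶ B, s ≫ π = 0 → ∃ r : P ⟶ A, r ≫ φ = s) := by
  have hSa := shortExact_a i φ π w₁ w₂ h₁ h₂
  have hSb := shortExact_b π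
  have hM1 : ∀ x : Ext P (kernel π) 1, x = 0 := ext_eq_zero_X₃ hSa P 1 hA1 hK2
  constructor
  · intro t
    obtain ⟨s, hs⟩ := Ext.covariant_sequence_exact₃ P hSb (Ext.mk₀ t) (zero_add 1) (hM1 _)
    refine ⟨Ext.homEquiv₀ s, ?_⟩
    apply (Ext.mk₀_bijective _ _).1
    rw [← Ext.mk₀_comp_mk₀, Ext.mk₀_homEquiv₀_apply]
    exact hs
  · intro s hs
    let s' : P ⟶ kernel π := kernel.lift π s hs
    have hs' : s' ≫ kernel.ι π = s := kernel.lift_ι _ _ _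
    obtain ⟨r, hr⟩ := Ext.covariant_sequence_exact₃ P hSa (Ext.mk₀ s') (zero_add 1) (hK1 _)
    refine ⟨Ext.homEquiv₀ r, ?_⟩
    have h1 : Ext.homEquiv₀ r ≫ e φ π w₂ = s' := by
      apply (Ext.mk₀_bijective _ _).1
      rw [← Ext.mk₀_comp_mk₀, Ext.mk₀_homEquiv₀_apply]
      exact hr
    rw [← e_ι φ π w₂, ← Category.assoc, h1, hs']

include h₁ h₂ in
/-- Vanishing of `Extⁿ(P, B)` from vanishing for `K` (degrees `n+1`), `A`, `C` (degree `n`). -/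
theorem ext_eq_zero_B (P : 𝒞) (n : ℕ) (hK : ∀ x : Ext P K (n + 1), x = 0)
    (hA : ∀ x : Ext P A n, x = 0) (hC : ∀ x : Ext P C n, x = 0) : ∀ x : Ext P B n, x = 0 :=
  ext_eq_zero_X₂ (shortExact_b π) P n
    (ext_eq_zero_X₃ (shortExact_a i φ π w₁ w₂ h₁ h₂) P n hA hK) hC

end FourTerm

end Groth.Agent.Lib.Helper22.ExtCompare
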