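import Groth.Agent.Lib.Helper22.FibreDim
import Groth.Agent.S5798
import Mathlib.AlgebraicGeometry.Restrict

/-!
# Dimension of schemes locally of finite type over a field is invariant under field extension
-/

universe u

namespace Groth.Agent.Lib.Helper22

open AlgebraicGeometry CategoryTheory Limits

/-- Base change of a scheme locally of finite type over a field to a field extension has the same
dimension. -/
theorem topologicalKrullDim_eq_of_isPullback_field (k K : Type u) [Field k] [Field K]
    {F F' : Scheme.{u}} (φ : F ⟶ Spec (.of k)) [LocallyOfFiniteType φ]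
    (ρ : Spec (.of K) ⟶ Spec (.of k)) (p : F' ⟶ F) (φ' : F' ⟶ Spec (.of K))
    (hpb : IsPullback p φ' φ ρ) :
    topologicalKrullDim F' = topologicalKrullDim F := by
  have hcov : ⨆ U : F.affineOpens, (U : F.Opens) = ⊤ := iSup_affineOpens_eq_top F
  have hcov' : ⨆ U : F.affineOpens, p ⁻¹ᵁ (U : F.Opens) = ⊤ := by
    rw [← Scheme.Hom.preimage_iSup, hcov]; rfl
  rw [Groth.Agent.S5798.result F F.affineOpens (fun U => (U : F.Opens)) hcov,
    Groth.Agent.S5798.result F' F.affineOpens (fun U => p ⁻¹ᵁ (U : F.Opens)) hcov']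
  congr 1
  funext U
  haveI : IsAffine (U : F.Opens).toScheme := U.2
  have hsq : IsPullback (p ∣_ (U : F.Opens)) ((p ⁻¹ᵁ (U : F.Opens)).ι ≫ φ')
      ((U : F.Opens).ι ≫ φ) ρ :=
    (isPullback_morphismRestrict p (U : F.Opens)).paste_vert hpb
  exact topologicalKrullDim_eq_of_isPullback_of_isAffine k K ((U : F.Opens).ι ≫ φ) ρ _ _ hsq

end Groth.Agent.Lib.Helper22
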