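import Groth.Agent.Lib.Helper22.Horseshoe.DerivedLES
import Groth.Agent.Lib.Helper25.DeltaFEff

/-!
# Objects of an adapted class are right acyclic

Let `F : A ⥤ B` be additive, `A` with enough injectives, `I` a class of objects such that every
object embeds into a member of `I` and such that for a short exact sequence whose first two terms
are in `I` the third is in `I` and `F` keeps the sequence short exact. Then for `X` in `I`,
`F X ⟶ R⁰F X` is an isomorphism and `RⁿF X = 0` for `n > 0`.
-/

set_option autoImplicit false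
set_option linter.unusedSectionVars false

universe v v' u u'

open CategoryTheory CategoryTheory.Limits

namespace Groth.Agent.Lib.Helper22.AdaptedAcyclic

open Groth.Agent.Lib.Helper25.DeltaFEff Groth.Agent.Lib.Helper22.Horseshoe

variable {A : Type u} [Category.{v} A] [Abelian A] [EnoughInjectives A]
  {B : Type u'} [Category.{v'} B] [Abelian B] (F : A ⥤ B) [F.Additive] (I : ObjectProperty A)
  (h1 : ∀ X : A, ∃ (Y : A) (ι : X ⟶ Y), I Y ∧ Mono ι)
  (h2 : ∀ S : ShortComplex A, S.ShortExact → I S.X₁ → I S.X₂ → I S.X₃ ∧ (S.map F).ShortExact)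

include h1 in
/-- Every object embeds into a member of `I` through an injective object. -/
lemma exists_embedding (X : A) :
    ∃ (Y : A) (e : X ⟶ Y) (J : A) (_ : Injective J) (a : X ⟶ J) (b : J ⟶ Y),
      I Y ∧ Mono e ∧ a ≫ b = e := by
  obtain ⟨Y, j, hY, hj⟩ := h1 (Injective.under X)
  exact ⟨Y, Injective.ι X ≫ j, Injective.under X, inferInstance, Injective.ι X, j, hY,
    mono_comp _ _, rfl⟩

variable {F I}

include h1 h2 in
/-- `F X ⟶ R⁰F X` is a monomorphism for `X` in `I`. -/
lemma mono_toRightDerivedZero (X : A) (hX : I X) : Mono (F.toRightDerivedZero.app X) := by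
  obtain ⟨Y, e, J, hJ, a, b, hY, he, hab⟩ := exists_embedding I h1 X
  have hS := sesOf_shortExact e
  have hFS := (h2 (sesOf e) hS hX hY).2
  have hFe : Mono (F.map e) := hFS.mono_f
  have hFa : Mono (F.map a) := by
    rw [← hab, F.map_comp] at hFe
    exact mono_of_mono (F.map a) (F.map b)
  have hnat := F.toRightDerivedZero.naturality a
  have h3 : Mono (F.toRightDerivedZero.app X ≫ (F.rightDerived 0).map a) := by
    rw [← hnat]
    exact mono_comp _ _
  exact mono_of_mono _ ((F.rightDerived 0).map a)

include h1 h2 in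
/-- `F X ⟶ R⁰F X` is an isomorphism for `X` in `I`. -/
lemma isIso_toRightDerivedZero (X : A) (hX : I X) : IsIso (F.toRightDerivedZero.app X) := by
  obtain ⟨Y, e, J, hJ, a, b, hY, he, hab⟩ := exists_embedding I h1 X
  have hS := sesOf_shortExact e
  obtain ⟨hQ, hFS⟩ := h2 (sesOf e) hS hX hY
  have hηQ : Mono (F.toRightDerivedZero.app (cokernel e)) :=
    mono_toRightDerivedZero h1 h2 _ hQ
  have hηX : Mono (F.toRightDerivedZero.app X) := mono_toRightDerivedZero h1 h2 _ hX
  let R0 := F.rightDerived 0
  let η := F.toRightDerivedZero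
  -- the map `R⁰F X ⟶ F Y` through the injective object
  let φ : R0.obj X ⟶ F.obj Y := R0.map a ≫ inv (η.app J) ≫ F.map b
  have hφ : φ ≫ η.app Y = R0.map e := by
    change (R0.map a ≫ inv (η.app J) ≫ F.map b) ≫ η.app Y = R0.map e
    rw [Category.assoc, Category.assoc, η.naturality b, IsIso.inv_hom_id_assoc, ← R0.map_comp, hab]
  have hφg : φ ≫ F.map (cokernel.π e) = 0 := by
    rw [← cancel_mono (η.app (cokernel e)), Category.assoc, η.naturality (cokernel.π e),
      ← Category.assoc, hφ, ← R0.map_comp, cokernel.condition, zero_comp]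
    exact R0.map_zero _ _
  have hm : Mono ((sesOf e).map F).f := hFS.mono_f
  -- lift through the kernel `F X`
  let ψ : R0.obj X ⟶ F.obj X := hFS.exact.lift φ hφg
  have hψ : ψ ≫ F.map e = φ := hFS.exact.lift_f φ hφg
  have hRe : Mono (R0.map e) := inferInstance
  have hsplit : ψ ≫ η.app X = 𝟙 _ := by
    rw [← cancel_mono (R0.map e), Category.assoc, ← η.naturality e, ← Category.assoc, hψ, hφ,
      Category.id_comp]
  have hepi : Epi (η.app X) := epi_of_epi_fac hsplit
  exact isIso_of_mono_of_epi _

include h1 h2 in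
/-- `RⁿF X = 0` for `X` in `I` and `n > 0`. -/
lemma isZero_rightDerived_succ (n : ℕ) :
    ∀ (X : A), I X → IsZero ((F.rightDerived (n + 1)).obj X) := by
  induction n with
  | zero =>
    intro X hX
    obtain ⟨Y, e, J, hJ, a, b, hY, he, hab⟩ := exists_embedding I h1 X
    have hS := sesOf_shortExact e
    obtain ⟨hQ, hFS⟩ := h2 (sesOf e) hS hX hY
    let Δ := derivedLES F
    have hz : (F.rightDerived 1).map (sesOf e).f = 0 := by
      change (F.rightDerived 1).map e = 0
      rw [← hab, Functor.map_comp,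
        (Functor.isZero_rightDerived_obj_injective_succ F 0 J).eq_of_tgt
          ((F.rightDerived 1).map a) 0, zero_comp]
    have hepi : Epi (Δ.δ (sesOf e) hS 0 1 rfl) := (Δ.exact₁ (sesOf e) hS 0 1 rfl).epi_f hz
    have hηY : IsIso (F.toRightDerivedZero.app Y) := isIso_toRightDerivedZero h1 h2 Y hY
    have hηQ : IsIso (F.toRightDerivedZero.app (cokernel e)) :=
      isIso_toRightDerivedZero h1 h2 _ hQ
    have hFg : Epi (F.map (cokernel.π e)) := hFS.epi_g
    have hR0g : Epi ((F.rightDerived 0).map (cokernel.π e)) := by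
      have hnat := F.toRightDerivedZero.naturality (cokernel.π e)
      have h3 : Epi (F.toRightDerivedZero.app Y ≫ (F.rightDerived 0).map (cokernel.π e)) := by
        rw [← hnat]
        exact epi_comp _ _
      exact epi_of_epi (F.toRightDerivedZero.app Y) _
    have hδ0 : Δ.δ (sesOf e) hS 0 1 rfl = 0 := by
      rw [← cancel_epi ((F.rightDerived 0).map (cokernel.π e)), comp_zero]
      exact Δ.comp_δ (sesOf e) hS 0 1 rfl
    exact IsZero.of_epi_eq_zero _ hδ0
  | succ n ih =>
    intro X hX
    obtain ⟨Y, e, J, hJ, a, b, hY, he, hab⟩ := exists_embedding I h1 X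
    have hS := sesOf_shortExact e
    obtain ⟨hQ, hFS⟩ := h2 (sesOf e) hS hX hY
    let Δ := derivedLES F
    have hz : (F.rightDerived (n + 1 + 1)).map (sesOf e).f = 0 := by
      change (F.rightDerived (n + 1 + 1)).map e = 0
      rw [← hab, Functor.map_comp,
        (Functor.isZero_rightDerived_obj_injective_succ F (n + 1) J).eq_of_tgt
          ((F.rightDerived (n + 1 + 1)).map a) 0, zero_comp]
    have hepi : Epi (Δ.δ (sesOf e) hS (n + 1) (n + 1 + 1) rfl) :=
      (Δ.exact₁ (sesOf e) hS (n + 1) (n + 1 + 1) rfl).epi_f hz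
    exact IsZero.of_epi (Δ.δ (sesOf e) hS (n + 1) (n + 1 + 1) rfl) (ih _ hQ)

end Groth.Agent.Lib.Helper22.AdaptedAcyclic
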