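import Mathlib.AlgebraicGeometry.Geometrically.Basic
import Mathlib.AlgebraicGeometry.Fiber
import Mathlib.AlgebraicGeometry.Morphisms.Flat
import Mathlib.AlgebraicGeometry.PullbackCarrier

/-!
# Geometric properties of fibres and base change
-/

universe u

namespace Groth.Agent.Lib.Helper22

open AlgebraicGeometry CategoryTheory Limits

/-- Descent of `geometrically P` along a surjective base change, for properties `P` descending along
flat surjective morphisms. -/
theorem geometrically_descends' {P : ObjectProperty Scheme.{u}}
    (hP : ∀ {Z' Z : Scheme.{u}} (q : Z' ⟶ Z), Surjective q → Flat q → P Z' → P Z)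
    {X Y X' Y' : Scheme.{u}} (f : X ⟶ Y) (g : Y' ⟶ Y) [Surjective g] (f' : X' ⟶ Y') (g' : X' ⟶ X)
    (hc : IsPullback g' f' f g)
    (h : geometrically P f') : geometrically P f := by
  intro K _ y Z fst snd hpb
  obtain ⟨L, _, a, b, hab⟩ : ∃ (L : Type u) (_ : Field L) (a : Spec (.of L) ⟶ Spec (.of K))
      (b : Spec (.of L) ⟶ Y'), a ≫ y = b ≫ g := by
    obtain ⟨pt⟩ := (inferInstance : Nonempty (Spec (.of K)))
    obtain ⟨y', hy'⟩ := g.surjective (y pt)
    obtain ⟨w, hw1, hw2⟩ :=
      Scheme.Pullback.exists_preimage_pullback (f := y) (g := g) pt y' hy'.symm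
    refine ⟨(pullback y g).residueField w, inferInstance,
      (pullback y g).fromSpecResidueField w ≫ pullback.fst y g,
      (pullback y g).fromSpecResidueField w ≫ pullback.snd y g, ?_⟩
    simp [pullback.condition]
  have hsa : Surjective a := ⟨fun x => ⟨Nonempty.some inferInstance, Subsingleton.elim _ _⟩⟩
  have hfa : Flat a := inferInstance
  have hZL : P (pullback snd a) := by
    have hw : (pullback.fst snd a ≫ fst) ≫ f = (pullback.snd snd a ≫ b) ≫ g := by
      rw [Category.assoc, hpb.w, ← Category.assoc, pullback.condition, Category.assoc, hab,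
        Category.assoc]
    refine h b (hc.lift (pullback.fst snd a ≫ fst) (pullback.snd snd a ≫ b) hw)
      (pullback.snd snd a) ?_
    refine IsPullback.of_right ?_ (hc.lift_snd _ _ _) hc
    rw [hc.lift_fst, ← hab]
    exact (IsPullback.of_hasPullback snd a).paste_horiz hpb
  exact hP (pullback.fst snd a) inferInstance inferInstance hZL

/-- `geometrically P` of a fibre is invariant under base change, for properties `P` descending along
flat surjective morphisms. -/
theorem geometrically_fiber_iff {P : ObjectProperty Scheme.{u}}
    (hP : ∀ {Z' Z : Scheme.{u}} (q : Z' ⟶ Z), Surjective q → Flat q → P Z' → P Z)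
    {X Y X' Y' : Scheme.{u}} (f : X ⟶ Y) (g : Y' ⟶ Y) (f' : X' ⟶ Y') (g' : X' ⟶ X)
    (hc : IsPullback g' f' f g) (y' : Y') :
    geometrically P (f'.fiberToSpecResidueField y') ↔
      geometrically P (f.fiberToSpecResidueField (g y')) := by
  have hpb := isPullback_fiberToSpecResidueField_of_isPullback hc y'
  constructor
  · intro h
    haveI : Surjective (Spec.map (g.residueFieldMap y')) :=
      ⟨fun x => ⟨Nonempty.some inferInstance, Subsingleton.elim _ _⟩⟩
    exact geometrically_descends' hP _ _ _ _ hpb h
  · intro h
    exact MorphismProperty.of_isPullback hpb h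

/-- Reducedness descends along flat surjective morphisms. -/
theorem isReduced_of_flat_of_surjective {Z' Z : Scheme.{u}} (q : Z' ⟶ Z) (hs : Surjective q)
    (hf : Flat q) (h : IsReduced Z') : IsReduced Z := by
  refine @isReduced_of_isReduced_stalk _ (fun z => ?_)
  obtain ⟨z', rfl⟩ := q.surjective z
  have hflat : (q.stalkMap z').hom.Flat := Flat.stalkMap q z'
  have hinj : Function.Injective (q.stalkMap z').hom := by
    algebraize [(q.stalkMap z').hom]
    have : IsLocalHom (algebraMap (Z.presheaf.stalk (q z')) (Z'.presheaf.stalk z')) :=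
      inferInstanceAs (IsLocalHom (q.stalkMap z').hom)
    have : Module.FaithfullyFlat (Z.presheaf.stalk (q z')) (Z'.presheaf.stalk z') :=
      Module.FaithfullyFlat.of_flat_of_isLocalHom
    exact FaithfulSMul.algebraMap_injective _ _
  exact isReduced_of_injective _ hinj

end Groth.Agent.Lib.Helper22
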