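import Mathlib

/-!
# Short exactness of complexes of sheaves from sectionwise short exactness; a Mayer–Vietoris
short exact sequence of abelian groups.
-/
open CategoryTheory Limits

universe w v u

namespace Groth.Agent.Lib.Helper22.SheafExact

section Functor

variable {C : Type u} [Category.{v} C] {A : Type*} [Category A] [Abelian A]

lemma exact_of_evaluation (S : ShortComplex (C ⥤ A))
    (hS : ∀ j : C, (S.map ((evaluation C A).obj j)).Exact) : S.Exact := by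
  simp only [ShortComplex.exact_iff_isZero_homology] at hS ⊢
  rw [IsZero.iff_id_eq_zero]
  ext j
  apply (IsZero.of_iso (hS j) (S.mapHomologyIso ((evaluation C A).obj j)).symm).eq_of_src

end Functor

section Sheaf

variable {C : Type u} [Category.{v} C] (J : GrothendieckTopology C)
  {A : Type*} [Category A] [Abelian A] [HasSheafify J A]

lemma exact_of_presheaf_exact (S : ShortComplex (Sheaf J A))
    (h : (S.map (sheafToPresheaf J A)).Exact) : S.Exact := by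
  have h2 := h.map (presheafToSheaf J A)
  have e : (S.map (sheafToPresheaf J A)).map (presheafToSheaf J A) ≅ S.map (𝟭 _) :=
    S.mapNatIso (asIso (sheafificationAdjunction J A).counit)
  have e' : S.map (𝟭 _) ≅ S := ShortComplex.isoMk (Iso.refl _) (Iso.refl _) (Iso.refl _)
    (by simp) (by simp)
  exact (ShortComplex.exact_iff_of_iso (e ≪≫ e')).1 h2

theorem shortExact_of_sectionwise (S : ShortComplex (Sheaf J A))
    (h : ∀ U : Cᵒᵖ, (S.map (sheafToPresheaf J A ⋙ (evaluation Cᵒᵖ A).obj U)).ShortExact) :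
    S.ShortExact := by
  have hex : S.Exact := exact_of_presheaf_exact J S
    (exact_of_evaluation _ (fun U => (h U).exact))
  have hm : Mono S.f := by
    have : ∀ U, Mono (((sheafToPresheaf J A).map S.f).app U) := fun U => (h U).mono_f
    have : Mono ((sheafToPresheaf J A).map S.f) := NatTrans.mono_of_mono_app _
    exact (sheafToPresheaf J A).mono_of_mono_map this
  have he : Epi S.g := by
    have : ∀ U, Epi (((sheafToPresheaf J A).map S.g).app U) := fun U => (h U).epi_g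
    have : Epi ((sheafToPresheaf J A).map S.g) := NatTrans.epi_of_epi_app _
    exact (sheafToPresheaf J A).epi_of_epi_map this
  exact ShortComplex.ShortExact.mk' hex hm he

end Sheaf

section Ab

variable {X₁ A₁ A₂ X₃ : AddCommGrpCat.{u}} (α₁ : X₁ ⟶ A₁) (α₂ : X₁ ⟶ A₂) (β₁ : A₁ ⟶ X₃)
  (β₂ : A₂ ⟶ X₃)

lemma biprod_elt (x : (A₁ ⊞ A₂ : AddCommGrpCat.{u})) :
    x = (biprod.inl : A₁ ⟶ A₁ ⊞ A₂) ((biprod.fst : A₁ ⊞ A₂ ⟶ A₁) x) +
      (biprod.inr : A₂ ⟶ A₁ ⊞ A₂) ((biprod.snd : A₁ ⊞ A₂ ⟶ A₂) x) := by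
  have h : ((biprod.fst ≫ biprod.inl + biprod.snd ≫ biprod.inr :
      (A₁ ⊞ A₂ : AddCommGrpCat.{u}) ⟶ A₁ ⊞ A₂)) x = x := by
    rw [biprod.total]; rfl
  exact h.symm

lemma ab_mv_shortExact (w : biprod.lift α₁ α₂ ≫ biprod.desc β₁ (-β₂) = 0)
    (c1 : ∀ s : X₁, α₁ s = 0 → α₂ s = 0 → s = 0)
    (c2 : ∀ (s₁ : A₁) (s₂ : A₂), β₁ s₁ = β₂ s₂ → ∃ s : X₁, α₁ s = s₁ ∧ α₂ s = s₂)
    (c3 : Function.Surjective β₁) :
    (ShortComplex.mk (biprod.lift α₁ α₂) (biprod.desc β₁ (-β₂)) w).ShortExact := by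
  have hfst : ∀ s : X₁, (biprod.fst : A₁ ⊞ A₂ ⟶ A₁) ((biprod.lift α₁ α₂) s) = α₁ s := fun s => by
    rw [← ConcreteCategory.comp_apply, biprod.lift_fst]
  have hsnd : ∀ s : X₁, (biprod.snd : A₁ ⊞ A₂ ⟶ A₂) ((biprod.lift α₁ α₂) s) = α₂ s := fun s => by
    rw [← ConcreteCategory.comp_apply, biprod.lift_snd]
  have hinl : ∀ s : A₁, (biprod.desc β₁ (-β₂)) ((biprod.inl : A₁ ⟶ A₁ ⊞ A₂) s) = β₁ s := fun s => by
    rw [← ConcreteCategory.comp_apply, biprod.inl_desc]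
  have hinr : ∀ s : A₂, (biprod.desc β₁ (-β₂)) ((biprod.inr : A₂ ⟶ A₁ ⊞ A₂) s) = -β₂ s := fun s => by
    rw [← ConcreteCategory.comp_apply, biprod.inr_desc]
    rfl
  refine ShortComplex.ShortExact.mk' ?_ ?_ ?_
  · rw [ShortComplex.ab_exact_iff]
    intro x hx
    dsimp at x hx
    obtain ⟨s, hs1, hs2⟩ := c2 ((biprod.fst : A₁ ⊞ A₂ ⟶ A₁) x) ((biprod.snd : A₁ ⊞ A₂ ⟶ A₂) x) (by
      rw [biprod_elt x, map_add, hinl, hinr] at hx
      exact eq_of_sub_eq_zero (by rw [sub_eq_add_neg]; exact hx))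
    refine ⟨s, ?_⟩
    dsimp
    rw [biprod_elt ((biprod.lift α₁ α₂) s), biprod_elt x, hfst, hsnd, hs1, hs2]
  · rw [AddCommGrpCat.mono_iff_injective, injective_iff_map_eq_zero]
    intro s hs
    dsimp at s hs
    refine c1 s ?_ ?_
    · rw [← hfst, hs, map_zero]
    · rw [← hsnd, hs, map_zero]
  · rw [AddCommGrpCat.epi_iff_surjective]
    intro t
    obtain ⟨s, rfl⟩ := c3 t
    exact ⟨(biprod.inl : A₁ ⟶ A₁ ⊞ A₂) s, hinl s⟩

end Ab

end Groth.Agent.Lib.Helper22.SheafExact
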