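import Mathlib.Topology.LocallyClosed
import Mathlib.Topology.NoetherianSpace
import Mathlib.Topology.Sets.Opens

set_option autoImplicit false

namespace Groth.Agent.Lib.Helper22

universe u v

variable {X : Type u} {Y : Type v} [TopologicalSpace X] [TopologicalSpace Y]

/-- Quasi-homeomorphism (unbundled): taking preimages is a bijection on open sets. -/
def QH (f : X → Y) : Prop :=
  (∀ U₁ U₂ : Set Y, IsOpen U₁ → IsOpen U₂ → f ⁻¹' U₁ = f ⁻¹' U₂ → U₁ = U₂) ∧
  (∀ V : Set X, IsOpen V → ∃ U : Set Y, IsOpen U ∧ f ⁻¹' U = V)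

/-- Locally quasi-constructible subsets. -/
def LQC (Z : Set Y) : Prop :=
  ∀ y : Y, ∃ U : Set Y, IsOpen U ∧ y ∈ U ∧
    ∃ T : Set (Set Y), T.Finite ∧ (∀ t ∈ T, IsLocallyClosed t) ∧ U ∩ Z = ⋃₀ T

variable {f : X → Y}

theorem QH.of_bijective (hf : Continuous f)
    (hq : Function.Bijective (fun U : TopologicalSpace.Opens Y =>
      (⟨f ⁻¹' (U : Set Y), U.isOpen.preimage hf⟩ : TopologicalSpace.Opens X))) : QH f := by
  constructor
  · intro U₁ U₂ h₁ h₂ he
    have := hq.1 (a₁ := ⟨U₁, h₁⟩) (a₂ := ⟨U₂, h₂⟩) (by ext1; exact he)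
    exact congrArg (fun U : TopologicalSpace.Opens Y => (U : Set Y)) this
  · intro V hV
    obtain ⟨U, hU⟩ := hq.2 ⟨V, hV⟩
    exact ⟨U, U.isOpen, congrArg (fun U : TopologicalSpace.Opens X => (U : Set X)) hU⟩

theorem QH.subset_of_preimage_subset (h : QH f) {U₁ U₂ : Set Y} (hU₁ : IsOpen U₁)
    (hU₂ : IsOpen U₂) (hsub : f ⁻¹' U₁ ⊆ f ⁻¹' U₂) : U₁ ⊆ U₂ := by
  have : U₁ ∪ U₂ = U₂ := h.1 _ _ (hU₁.union hU₂) hU₂ (by
    rw [Set.preimage_union]; exact Set.union_eq_self_of_subset_left hsub)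
  rw [← this]; exact Set.subset_union_left

theorem QH.eq_empty_of_isLocallyClosed (h : QH f) {Z : Set Y} (hZ : IsLocallyClosed Z)
    (he : f ⁻¹' Z = ∅) : Z = ∅ := by
  obtain ⟨U, C, hU, hC, rfl⟩ := hZ
  have h1 : U ∩ Cᶜ = U := h.1 _ _ (hU.inter hC.isOpen_compl) hU (by
    ext x
    have := Set.ext_iff.mp he x
    simp only [Set.mem_preimage, Set.mem_inter_iff, Set.mem_empty_iff_false, iff_false, not_and,
      Set.mem_compl_iff] at this ⊢
    exact ⟨fun hx => hx.1, fun hx => ⟨hx, this hx⟩⟩)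
  ext y
  simp only [Set.mem_inter_iff, Set.mem_empty_iff_false, iff_false, not_and]
  intro hy
  have : y ∈ U ∩ Cᶜ := by rw [h1]; exact hy
  exact this.2

theorem QH.eq_empty_of_lqc (h : QH f) {Z : Set Y} (hZ : LQC Z) (he : f ⁻¹' Z = ∅) : Z = ∅ := by
  by_contra hne
  obtain ⟨y, hy⟩ := Set.nonempty_iff_ne_empty.mpr hne
  obtain ⟨U, hU, hyU, T, -, hT, hUT⟩ := hZ y
  have hyT : y ∈ ⋃₀ T := hUT ▸ ⟨hyU, hy⟩
  obtain ⟨t, ht, hyt⟩ := hyT
  have : t = ∅ := h.eq_empty_of_isLocallyClosed (hT t ht) (by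
    apply Set.eq_empty_of_subset_empty
    rw [← he]
    apply Set.preimage_mono
    have : t ⊆ U ∩ Z := hUT ▸ Set.subset_sUnion_of_mem ht
    exact this.trans Set.inter_subset_right)
  rw [this] at hyt
  exact hyt

theorem LQC.inter_isLocallyClosed {Z s : Set Y} (hZ : LQC Z) (hs : IsLocallyClosed s) :
    LQC (Z ∩ s) := by
  intro y
  obtain ⟨U, hU, hyU, T, hTf, hT, hUT⟩ := hZ y
  refine ⟨U, hU, hyU, (fun t => t ∩ s) '' T, hTf.image _, ?_, ?_⟩
  · rintro _ ⟨t, ht, rfl⟩
    exact (hT t ht).inter hs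
  · rw [← Set.inter_assoc, hUT, Set.sUnion_image, Set.sUnion_eq_biUnion, Set.iUnion₂_inter]

theorem LQC.of_isLocallyClosed {s : Set Y} (hs : IsLocallyClosed s) : LQC s := by
  intro y
  refine ⟨Set.univ, isOpen_univ, trivial, {s}, Set.finite_singleton _, ?_, by simp⟩
  rintro t rfl
  exact hs

theorem QH.restrictPreimage (h : QH f) {Y' : Set Y} (hY' : LQC Y') :
    QH (Y'.restrictPreimage f) := by
  constructor
  · intro U₁ U₂ hU₁ hU₂ he
    obtain ⟨W₁, hW₁, rfl⟩ := isOpen_induced_iff.mp hU₁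
    obtain ⟨W₂, hW₂, rfl⟩ := isOpen_induced_iff.mp hU₂
    have key : ∀ A B : Set Y, IsOpen A → IsOpen B →
        (Y'.restrictPreimage f) ⁻¹' (Subtype.val ⁻¹' A) =
          (Y'.restrictPreimage f) ⁻¹' (Subtype.val ⁻¹' B) → Y' ∩ (A ∩ Bᶜ) = ∅ := by
      intro A B hA hB hAB
      apply h.eq_empty_of_lqc (hY'.inter_isLocallyClosed (hA.isLocallyClosed.inter
        hB.isClosed_compl.isLocallyClosed))
      ext x
      simp only [Set.mem_preimage, Set.mem_inter_iff, Set.mem_compl_iff,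
        Set.mem_empty_iff_false, iff_false, not_and, not_not]
      intro hx hxA
      have := Set.ext_iff.mp hAB ⟨x, hx⟩
      simp only [Set.mem_preimage, Set.restrictPreimage_mk] at this
      exact this.mp hxA
    have k1 := key W₁ W₂ hW₁ hW₂ he
    have k2 := key W₂ W₁ hW₂ hW₁ he.symm
    ext ⟨y, hy⟩
    simp only [Set.mem_preimage]
    constructor
    · intro hy1
      by_contra hy2
      have : y ∈ Y' ∩ (W₁ ∩ W₂ᶜ) := ⟨hy, hy1, hy2⟩
      rw [k1] at this; exact this
    · intro hy2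
      by_contra hy1
      have : y ∈ Y' ∩ (W₂ ∩ W₁ᶜ) := ⟨hy, hy2, hy1⟩
      rw [k2] at this; exact this
  · intro V hV
    obtain ⟨W, hW, rfl⟩ := isOpen_induced_iff.mp hV
    obtain ⟨U, hU, rfl⟩ := h.2 W hW
    refine ⟨Subtype.val ⁻¹' U, hU.preimage continuous_subtype_val, ?_⟩
    ext ⟨x, hx⟩
    simp [Set.restrictPreimage]

theorem QH.compactSpace_iff (h : QH f) (hf : Continuous f) : CompactSpace Y ↔ CompactSpace X := by
  constructor
  · intro hY
    refine ⟨isCompact_of_finite_subcover ?_⟩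
    intro ι V hV hcov
    choose W hWo hW using fun i => h.2 (V i) (hV i)
    have hcovY : (Set.univ : Set Y) ⊆ ⋃ i, W i := by
      apply h.subset_of_preimage_subset isOpen_univ (isOpen_iUnion hWo)
      rw [Set.preimage_iUnion]
      simp only [hW]
      simpa using hcov
    obtain ⟨t, ht⟩ := hY.isCompact_univ.elim_finite_subcover W hWo hcovY
    refine ⟨t, ?_⟩
    have := Set.preimage_mono (f := f) ht
    simp only [Set.preimage_iUnion, hW, Set.preimage_univ] at this
    exact this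
  · intro hX
    refine ⟨isCompact_of_finite_subcover ?_⟩
    intro ι W hW hcov
    have hcovX : (Set.univ : Set X) ⊆ ⋃ i, f ⁻¹' (W i) := by
      have := Set.preimage_mono (f := f) hcov
      simpa only [Set.preimage_iUnion, Set.preimage_univ] using this
    obtain ⟨t, ht⟩ := hX.isCompact_univ.elim_finite_subcover _
      (fun i => (hW i).preimage hf) hcovX
    refine ⟨t, ?_⟩
    apply h.subset_of_preimage_subset isOpen_univ
      (isOpen_iUnion fun i => isOpen_iUnion fun _ => hW i)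
    simpa only [Set.preimage_iUnion, Set.preimage_univ] using ht

theorem QH.isCompact_preimage_iff (h : QH f) (hf : Continuous f) {Z : Set Y} (hZ : LQC Z) :
    IsCompact Z ↔ IsCompact (f ⁻¹' Z) := by
  rw [isCompact_iff_compactSpace, isCompact_iff_compactSpace]
  exact (h.restrictPreimage hZ).compactSpace_iff hf.restrictPreimage

theorem QH.noetherianSpace_iff (h : QH f) (hf : Continuous f) :
    TopologicalSpace.NoetherianSpace Y ↔ TopologicalSpace.NoetherianSpace X := by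
  rw [TopologicalSpace.noetherianSpace_iff_opens, TopologicalSpace.noetherianSpace_iff_opens]
  constructor
  · intro H V
    obtain ⟨U, hU, hUV⟩ := h.2 V V.isOpen
    rw [← hUV]
    exact (h.isCompact_preimage_iff hf (LQC.of_isLocallyClosed hU.isLocallyClosed)).mp (H ⟨U, hU⟩)
  · intro H U
    exact (h.isCompact_preimage_iff hf (LQC.of_isLocallyClosed U.isOpen.isLocallyClosed)).mpr
      (H ⟨f ⁻¹' U, U.isOpen.preimage hf⟩)

end Groth.Agent.Lib.Helper22
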