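import Mathlib

/-!
# Elementwise description of the cohomology of a cochain complex of abelian groups (helper22)

For `K : CochainComplex AddCommGrpCat ℕ`: `cls K q z hz` is the class of the cocycle `z`;
`exists_cls`, `cls_eq_zero_succ_iff`, `cls_eq_zero_zero_iff`, `map_cls`, `cls_add`/`cls_sub`.
-/

set_option autoImplicit false

universe w

open CategoryTheory CategoryTheory.Limits

namespace Groth.Agent.Lib.Helper22.AbHomology

variable (K : CochainComplex AddCommGrpCat.{w} ℕ)

lemma next_eq (q : ℕ) : (ComplexShape.up ℕ).next q = q + 1 := by simp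

/-- Cocycles are exactly the image of `iCycles`. -/
lemma exists_cycle (q : ℕ) (z : K.X q) (hz : K.d q (q + 1) z = 0) :
    ∃ y : K.cycles q, K.iCycles q y = z := by
  have hS : (ShortComplex.mk (K.iCycles q) (K.d q (q + 1)) (K.iCycles_d q (q + 1))).Exact :=
    ShortComplex.exact_of_f_is_kernel _ (K.cyclesIsKernel q (q + 1) (next_eq q))
  exact (ShortComplex.ab_exact_iff _).1 hS z hz

lemma iCycles_injective (q : ℕ) : Function.Injective (K.iCycles q) :=
  (AddCommGrpCat.mono_iff_injective _).1 inferInstance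

/-- The cycle attached to a cocycle. -/
noncomputable def cyc (q : ℕ) (z : K.X q) (hz : K.d q (q + 1) z = 0) : K.cycles q :=
  (exists_cycle K q z hz).choose

@[simp] lemma iCycles_cyc (q : ℕ) (z : K.X q) (hz : K.d q (q + 1) z = 0) :
    K.iCycles q (cyc K q z hz) = z :=
  (exists_cycle K q z hz).choose_spec

lemma d_iCycles (q : ℕ) (y : K.cycles q) : K.d q (q + 1) (K.iCycles q y) = 0 := by
  have h := K.iCycles_d q (q + 1)
  exact congrArg (fun φ => φ y) (congrArg AddCommGrpCat.Hom.hom h)

lemma cyc_iCycles (q : ℕ) (y : K.cycles q) : cyc K q (K.iCycles q y) (d_iCycles K q y) = y :=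
  iCycles_injective K q (iCycles_cyc K q _ _)

/-- The cohomology class of a cocycle. -/
noncomputable def cls (q : ℕ) (z : K.X q) (hz : K.d q (q + 1) z = 0) : K.homology q :=
  K.homologyπ q (cyc K q z hz)

lemma exists_cls (q : ℕ) (x : K.homology q) :
    ∃ (z : K.X q) (hz : K.d q (q + 1) z = 0), cls K q z hz = x := by
  obtain ⟨y, hy⟩ := (AddCommGrpCat.epi_iff_surjective (K.homologyπ q)).1 inferInstance x
  refine ⟨K.iCycles q y, d_iCycles K q y, ?_⟩
  rw [cls, cyc_iCycles, hy]

lemma cls_sub (q : ℕ) (z z' : K.X q) (hz : K.d q (q + 1) z = 0) (hz' : K.d q (q + 1) z' = 0) :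
    cls K q z hz - cls K q z' hz' = cls K q (z - z') (by rw [map_sub, hz, hz', sub_zero]) := by
  rw [cls, cls, cls, ← map_sub]
  congr 1
  apply iCycles_injective K q
  rw [map_sub, iCycles_cyc, iCycles_cyc, iCycles_cyc]

lemma homologyπ_eq_zero_iff (p q : ℕ) (hpq : (ComplexShape.up ℕ).prev q = p) (y : K.cycles q) :
    K.homologyπ q y = 0 ↔ ∃ w : K.X p, K.toCycles p q w = y := by
  have hS : (ShortComplex.mk (K.toCycles p q) (K.homologyπ q)
      (K.toCycles_comp_homologyπ p q)).Exact :=
    ShortComplex.exact_of_g_is_cokernel _ (K.homologyIsCokernel p q hpq)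
  constructor
  · intro h
    exact (ShortComplex.ab_exact_iff _).1 hS y h
  · rintro ⟨w, rfl⟩
    have h := K.toCycles_comp_homologyπ p q
    exact congrArg (fun φ => φ w) (congrArg AddCommGrpCat.Hom.hom h)

lemma toCycles_apply (p q : ℕ) (w : K.X p) : K.iCycles q (K.toCycles p q w) = K.d p q w := by
  have h := K.toCycles_i p q
  exact congrArg (fun φ => φ w) (congrArg AddCommGrpCat.Hom.hom h)

/-- A class in positive degree vanishes iff the cocycle is a coboundary. -/
lemma cls_eq_zero_succ_iff (q : ℕ) (z : K.X (q + 1)) (hz : K.d (q + 1) (q + 2) z = 0) :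
    cls K (q + 1) z hz = 0 ↔ ∃ w : K.X q, K.d q (q + 1) w = z := by
  rw [cls, homologyπ_eq_zero_iff K q (q + 1) (by simp)]
  constructor
  · rintro ⟨w, hw⟩
    refine ⟨w, ?_⟩
    rw [← toCycles_apply, hw, iCycles_cyc]
  · rintro ⟨w, hw⟩
    refine ⟨w, ?_⟩
    apply iCycles_injective K (q + 1)
    rw [toCycles_apply, iCycles_cyc, hw]

/-- A class in degree zero vanishes iff the cocycle vanishes. -/
lemma cls_eq_zero_zero_iff (z : K.X 0) (hz : K.d 0 1 z = 0) :
    cls K 0 z hz = 0 ↔ z = 0 := by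
  rw [cls, homologyπ_eq_zero_iff K 0 0 (by simp)]
  have h0 : K.toCycles 0 0 = 0 := K.toCycles_eq_zero (by simp)
  constructor
  · rintro ⟨w, hw⟩
    rw [h0] at hw
    have : cyc K 0 z hz = 0 := hw.symm
    rw [← iCycles_cyc K 0 z hz, this, map_zero]
  · intro h
    refine ⟨0, ?_⟩
    apply iCycles_injective K 0
    rw [map_zero, map_zero, iCycles_cyc, h]

variable {K} {L : CochainComplex AddCommGrpCat.{w} ℕ} (φ : K ⟶ L)

lemma d_map (q : ℕ) (z : K.X q) (hz : K.d q (q + 1) z = 0) :
    L.d q (q + 1) (φ.f q z) = 0 := by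
  have h := φ.comm q (q + 1)
  have h2 : L.d q (q + 1) (φ.f q z) = φ.f (q + 1) (K.d q (q + 1) z) :=
    congrArg (fun ψ => ψ z) (congrArg AddCommGrpCat.Hom.hom h)
  rw [h2, hz, map_zero]

/-- Functoriality of classes. -/
lemma map_cls (q : ℕ) (z : K.X q) (hz : K.d q (q + 1) z = 0) :
    HomologicalComplex.homologyMap φ q (cls K q z hz) =
      cls L q (φ.f q z) (d_map φ q z hz) := by
  have h := HomologicalComplex.homologyπ_naturality φ q
  have h2 : HomologicalComplex.homologyMap φ q (K.homologyπ q (cyc K q z hz)) =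
      L.homologyπ q (HomologicalComplex.cyclesMap φ q (cyc K q z hz)) :=
    congrArg (fun ψ => ψ (cyc K q z hz)) (congrArg AddCommGrpCat.Hom.hom h)
  rw [cls, h2, cls]
  congr 1
  apply iCycles_injective L q
  rw [iCycles_cyc]
  have h3 := HomologicalComplex.cyclesMap_i φ q
  have h4 : L.iCycles q (HomologicalComplex.cyclesMap φ q (cyc K q z hz)) =
      φ.f q (K.iCycles q (cyc K q z hz)) :=
    congrArg (fun ψ => ψ (cyc K q z hz)) (congrArg AddCommGrpCat.Hom.hom h3)
  rw [h4, iCycles_cyc]

end Groth.Agent.Lib.Helper22.AbHomology
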