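import Groth.Prelude.Def_RDer
import Mathlib.Algebra.Homology.Augment
import Mathlib.CategoryTheory.Abelian.RightDerived
import Mathlib.Algebra.Homology.QuasiIso

set_option autoImplicit false
universe v v' u u'
open CategoryTheory CategoryTheory.Limits

namespace Groth.Agent.Lib.Helper22.AdaptedClass

noncomputable section


section Generic

variable {A : Type u} [Category.{v} A] [Abelian A]

lemma map_idem {X Y : A} (a : X ⟶ X) (b : Y ⟶ Y) (ha : a ≫ a = a) (hb : b ≫ b = b) :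
    biprod.map a b ≫ biprod.map a b = biprod.map a b := by
  apply biprod.hom_ext
  · rw [Category.assoc, biprod.map_fst, biprod.map_fst_assoc, ha]
  · rw [Category.assoc, biprod.map_snd, biprod.map_snd_assoc, hb]

lemma one_sub_idem {Y : A} (P : Y ⟶ Y) (hP : P ≫ P = P) : (𝟙 Y - P) ≫ (𝟙 Y - P) = 𝟙 Y - P := by
  rw [Preadditive.comp_sub, Category.comp_id, Preadditive.sub_comp, Category.id_comp, hP,
    sub_self, sub_zero]

lemma lift_map_zero {W X Y : A} (x : W ⟶ X) (y : W ⟶ Y) (a : X ⟶ X) (b : Y ⟶ Y)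
    (h1 : x ≫ a = 0) (h2 : y ≫ b = 0) : biprod.lift x y ≫ biprod.map a b = 0 := by
  apply biprod.hom_ext
  · rw [Category.assoc, biprod.map_fst, biprod.lift_fst_assoc, h1, zero_comp]
  · rw [Category.assoc, biprod.map_snd, biprod.lift_snd_assoc, h2, zero_comp]

lemma comp_lift_zero {V W X Y : A} (w : V ⟶ W) (x : W ⟶ X) (y : W ⟶ Y)
    (h1 : w ≫ x = 0) (h2 : w ≫ y = 0) : w ≫ biprod.lift x y = 0 := by
  apply biprod.hom_ext
  · rw [Category.assoc, biprod.lift_fst, h1, zero_comp]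
  · rw [Category.assoc, biprod.lift_snd, h2, zero_comp]

lemma comp_lift_inl {V W X Y : A} (p : V ⟶ W) (x : W ⟶ X) (y : W ⟶ Y) (z : V ⟶ X)
    (h1 : p ≫ x = z) (h2 : p ≫ y = 0) : p ≫ biprod.lift x y = z ≫ biprod.inl := by
  apply biprod.hom_ext
  · rw [Category.assoc, biprod.lift_fst, h1, Category.assoc, biprod.inl_fst, Category.comp_id]
  · rw [Category.assoc, biprod.lift_snd, h2, Category.assoc, biprod.inl_snd, comp_zero]

lemma key_succ {X Y Z J' : A} (r : X ⟶ J') (e : J' ⟶ X) (P : Y ⟶ Y) (u : X ⊞ Y ⟶ Z) (q : Y ⟶ X)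
    (hc : (𝟙 X - r ≫ e) ≫ (𝟙 X - r ≫ e) = 𝟙 X - r ≫ e) (hP : P ≫ P = P) (hPq : P ≫ q = 0) :
    𝟙 (X ⊞ Y) - (biprod.fst ≫ r) ≫ (e ≫ biprod.inl) =
      biprod.lift u (biprod.map (𝟙 X - r ≫ e) (𝟙 Y - P)) ≫ biprod.snd ≫
          biprod.map (𝟙 X - r ≫ e) (𝟙 Y - P) +
        (biprod.snd ≫ P) ≫ biprod.lift q P := by
  rw [biprod.lift_snd_assoc, map_idem _ _ hc (one_sub_idem P hP)]
  apply biprod.hom_ext' <;> apply biprod.hom_ext <;>
    simp [Preadditive.sub_comp, Preadditive.comp_sub, Preadditive.add_comp,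
      Preadditive.comp_add, hP, hPq]

end Generic

section Construction

variable {A : Type u} [Category.{v} A] [Abelian A]
  (J : CochainComplex A ℕ) (O : ℕ → A) (e : ∀ m, J.X m ⟶ O m) (r : ∀ m, O m ⟶ J.X m)

/-- The objects `K^n = O^n ⊞ O^{n-1} ⊞ ⋯ ⊞ O^0`. -/
def K : ℕ → A
  | 0 => O 0
  | (n + 1) => O (n + 1) ⊞ K n

/-- The projection of `O^m` onto the complement of `J^m`. -/
def πC (m : ℕ) : O m ⟶ O m := 𝟙 _ - r m ≫ e m

/-- The idempotents `P^n`. -/
def P : ∀ n, K O n ⟶ K O n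
  | 0 => πC J O e r 0
  | (n + 1) => biprod.map (πC J O e r (n + 1)) (𝟙 _ - P n)

/-- The retractions `Q^n : K^n ⟶ J^n`. -/
def Q : ∀ n, K O n ⟶ J.X n
  | 0 => r 0
  | (n + 1) => biprod.fst ≫ r (n + 1)

/-- The sections `φ^n : J^n ⟶ K^n`. -/
def φ : ∀ n, J.X n ⟶ K O n
  | 0 => e 0
  | (n + 1) => e (n + 1) ≫ biprod.inl

/-- The differential. -/
def d (n : ℕ) : K O n ⟶ K O (n + 1) :=
  biprod.lift (Q J O r n ≫ J.d n (n + 1) ≫ e (n + 1)) (P J O e r n)

variable (her : ∀ m, e m ≫ r m = 𝟙 _)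

include her in
lemma e_πC (m : ℕ) : e m ≫ πC J O e r m = 0 := by
  simp [πC, Preadditive.comp_sub, reassoc_of% (her m)]

include her in
lemma πC_r (m : ℕ) : πC J O e r m ≫ r m = 0 := by
  simp [πC, Preadditive.sub_comp, her m]

include her in
lemma πC_idem (m : ℕ) : πC J O e r m ≫ πC J O e r m = πC J O e r m := by
  have h := πC_r J O e r her m
  simp only [πC] at h ⊢
  rw [Preadditive.comp_sub, Category.comp_id, ← Category.assoc, h, zero_comp, sub_zero]

include her in
lemma P_idem : ∀ n, P J O e r n ≫ P J O e r n = P J O e r n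
  | 0 => πC_idem J O e r her 0
  | (n + 1) => by
    exact map_idem _ _ (πC_idem J O e r her (n + 1)) (one_sub_idem _ (P_idem n))

include her in
lemma P_Q : ∀ n, P J O e r n ≫ Q J O r n = 0
  | 0 => πC_r J O e r her 0
  | (n + 1) => by
    change biprod.map _ _ ≫ biprod.fst ≫ r (n + 1) = 0
    rw [biprod.map_fst_assoc, πC_r J O e r her, comp_zero]

include her in
lemma d_Q (n : ℕ) : d J O e r n ≫ Q J O r (n + 1) = Q J O r n ≫ J.d n (n + 1) := by
  change biprod.lift _ _ ≫ biprod.fst ≫ r (n + 1) = _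
  rw [biprod.lift_fst_assoc, Category.assoc, Category.assoc, her, Category.comp_id]

include her in
lemma d_P (n : ℕ) : d J O e r n ≫ P J O e r (n + 1) = 0 := by
  have h1 : (Q J O r n ≫ J.d n (n + 1) ≫ e (n + 1)) ≫ πC J O e r (n + 1) = 0 := by
    simp only [Category.assoc, e_πC J O e r her, comp_zero]
  have h2 : P J O e r n ≫ (𝟙 (K O n) - P J O e r n) = 0 := by
    rw [Preadditive.comp_sub, Category.comp_id, P_idem J O e r her, sub_self]
  exact lift_map_zero _ _ _ _ h1 h2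

include her in
lemma d_d (n : ℕ) : d J O e r n ≫ d J O e r (n + 1) = 0 := by
  have h1 : d J O e r n ≫ Q J O r (n + 1) ≫ J.d (n + 1) (n + 1 + 1) ≫ e (n + 1 + 1) = 0 := by
    rw [← Category.assoc, d_Q J O e r her, Category.assoc, HomologicalComplex.d_comp_d_assoc,
      zero_comp, comp_zero]
  exact comp_lift_zero _ _ _ h1 (d_P J O e r her n)

include her in
lemma φ_Q : ∀ n, φ J O e n ≫ Q J O r n = 𝟙 _
  | 0 => her 0
  | (n + 1) => by
    change (e (n + 1) ≫ biprod.inl) ≫ biprod.fst ≫ r (n + 1) = _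
    simp [her]

include her in
lemma φ_P : ∀ n, φ J O e n ≫ P J O e r n = 0
  | 0 => e_πC J O e r her 0
  | (n + 1) => by
    change (e (n + 1) ≫ biprod.inl) ≫ biprod.map _ _ = 0
    rw [Category.assoc, biprod.inl_map, ← Category.assoc, e_πC J O e r her, zero_comp]

include her in
lemma φ_d (n : ℕ) : φ J O e n ≫ d J O e r n = J.d n (n + 1) ≫ φ J O e (n + 1) := by
  have h1 : φ J O e n ≫ Q J O r n ≫ J.d n (n + 1) ≫ e (n + 1) = J.d n (n + 1) ≫ e (n + 1) := by
    rw [← Category.assoc, φ_Q J O e r her, Category.id_comp]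
  have h := comp_lift_inl _ _ _ _ h1 (φ_P J O e r her n)
  rw [Category.assoc] at h
  exact h

/-- The complex `K•`. -/
def KC : CochainComplex A ℕ := CochainComplex.of (K O) (d J O e r) (d_d J O e r her)

lemma KC_d (n : ℕ) : (KC J O e r her).d n (n + 1) = d J O e r n := CochainComplex.of_d _ _ n

/-- `φ` as a cochain map. -/
def φc : J ⟶ KC J O e r her where
  f := φ J O e
  comm' := by
    rintro i j (rfl : i + 1 = j)
    rw [KC_d]
    exact φ_d J O e r her i

/-- `Q` as a cochain map. -/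
def ψc : KC J O e r her ⟶ J where
  f := Q J O r
  comm' := by
    rintro i j (rfl : i + 1 = j)
    rw [KC_d]
    exact (d_Q J O e r her i).symm

lemma φc_ψc : φc J O e r her ≫ ψc J O e r her = 𝟙 J := by
  ext n
  exact φ_Q J O e r her n

/-- The contracting homotopy data. -/
def hh : ∀ i j, (ComplexShape.up ℕ).Rel j i → ((KC J O e r her).X i ⟶ (KC J O e r her).X j) :=
  fun i j hij => ((KC J O e r her).XIsoOfEq (show i = j + 1 from hij.symm)).hom ≫
    (biprod.snd : O (j + 1) ⊞ K O j ⟶ K O j) ≫ P J O e r j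

lemma hh_succ (j : ℕ) (hij : (ComplexShape.up ℕ).Rel j (j + 1)) :
    hh J O e r her (j + 1) j hij =
      (biprod.snd : O (j + 1) ⊞ K O j ⟶ K O j) ≫ P J O e r j := by
  simp [hh]
  rfl

lemma one_sub_eq : 𝟙 (KC J O e r her) - ψc J O e r her ≫ φc J O e r her =
    Homotopy.nullHomotopicMap' (hh J O e r her) := by
  ext n
  cases n with
  | zero =>
    rw [Homotopy.nullHomotopicMap'_f_of_not_rel_right (c := ComplexShape.up ℕ) (k₁ := 0) (k₀ := 1)
      rfl (by intro l hl; exact Nat.succ_ne_zero l hl)]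
    rw [hh_succ, KC_d]
    have h1 : (biprod.lift (Q J O r 0 ≫ J.d 0 1 ≫ e 1) (P J O e r 0)) ≫
        (biprod.snd : O 1 ⊞ K O 0 ⟶ K O 0) ≫ P J O e r 0 = P J O e r 0 := by
      rw [biprod.lift_snd_assoc, P_idem J O e r her]
    exact h1.symm
  | succ n =>
    rw [Homotopy.nullHomotopicMap'_f (c := ComplexShape.up ℕ) (k₂ := n) (k₁ := n + 1)
      (k₀ := n + 2) rfl rfl]
    rw [hh_succ, hh_succ, KC_d, KC_d]
    have hq : P J O e r n ≫ Q J O r n ≫ J.d n (n + 1) ≫ e (n + 1) = 0 := by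
      rw [← Category.assoc, P_Q J O e r her, zero_comp]
    exact key_succ (r (n + 1)) (e (n + 1)) (P J O e r n)
      (Q J O r (n + 1) ≫ J.d (n + 1) (n + 1 + 1) ≫ e (n + 1 + 1))
      (Q J O r n ≫ J.d n (n + 1) ≫ e (n + 1))
      (πC_idem J O e r her (n + 1)) (P_idem J O e r her n) hq

/-- `J•` and `K•` are homotopy equivalent. -/
def hequiv : HomotopyEquiv J (KC J O e r her) where
  hom := φc J O e r her
  inv := ψc J O e r her
  homotopyHomInvId := Homotopy.ofEq (φc_ψc J O e r her)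
  homotopyInvHomId := by
    have h0 := Homotopy.nullHomotopy' (hh J O e r her)
    rw [← one_sub_eq] at h0
    exact ((Homotopy.equivSubZero).symm h0).symm

end Construction

section Main

variable {A : Type u} [Category.{v} A] [Abelian A]

lemma prop_K (𝒪 : ObjectProperty A) (O : ℕ → A) (h0 : ∀ X Y : A, 𝒪 X → 𝒪 Y → 𝒪 (X ⊞ Y))
    (hO : ∀ m, 𝒪 (O m)) : ∀ n, 𝒪 (K O n)
  | 0 => hO 0
  | (n + 1) => h0 _ _ (hO (n + 1)) (prop_K 𝒪 O h0 hO n)

/-- The augmented complex of a resolution is acyclic. -/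
lemma augment_acyclic {Y : A} (L : CochainComplex A ℕ) (ι : (CochainComplex.single₀ A).obj Y ⟶ L)
    [QuasiIso ι] :
    (CochainComplex.augment L (ι.f 0) (RDer.res_ι_d L ι)).Acyclic := by
  intro i
  match i with
  | 0 =>
    rw [HomologicalComplex.exactAt_iff' _ 0 0 1 (by simp) (by simp)]
    have hm : Mono (ι.f 0) := inferInstance
    refine (ShortComplex.exact_iff_mono _ ?_).2 ?_
    · exact HomologicalComplex.shape (CochainComplex.augment L (ι.f 0) (RDer.res_ι_d L ι)) 0 0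
        (fun h : (0 : ℕ) + 1 = 0 => by omega)
    · exact hm
  | 1 =>
    rw [HomologicalComplex.exactAt_iff' _ 0 1 2 (by simp) (by simp)]
    exact RDer.res_exact₀ L ι
  | (n + 2) =>
    rw [HomologicalComplex.exactAt_iff' _ (n + 1) (n + 2) (n + 3) (by simp) (by simp)]
    exact RDer.res_exact_succ L ι n

/-- **Adapted classes are acyclic.** -/
theorem isZero_rightDerived_of_adapted [EnoughInjectives A]
    {B : Type u'} [Category.{v'} B] [Abelian B] (f : A ⥤ B) [f.Additive] (𝒪 : ObjectProperty A)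
    (h0 : ∀ X Y : A, 𝒪 X → 𝒪 Y → 𝒪 (X ⊞ Y))
    (h1 : ∀ K : CochainComplex A ℕ, (∀ i, 𝒪 (K.X i)) → K.Acyclic →
      ((f.mapHomologicalComplex (ComplexShape.up ℕ)).obj K).Acyclic)
    (h2 : ∀ X : A, ∃ (Y : A) (i : X ⟶ Y), 𝒪 Y ∧ Mono i)
    (X : A) (hX : 𝒪 X) (n : ℕ) (hn : 0 < n) :
    IsZero ((f.rightDerived n).obj X) := by
  obtain ⟨m, rfl⟩ : ∃ m, n = m + 1 := ⟨n - 1, by omega⟩
  let I := injectiveResolution X
  choose O e hOe using fun m => h2 (I.cocomplex.X m)
  have hO : ∀ m, 𝒪 (O m) := fun m => (hOe m).1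
  have he : ∀ m, Mono (e m) := fun m => (hOe m).2
  let r : ∀ m, O m ⟶ I.cocomplex.X m := fun m => Injective.factorThru (𝟙 _) (e m)
  have her : ∀ m, e m ≫ r m = 𝟙 _ := fun m => Injective.comp_factorThru _ _
  let E := hequiv I.cocomplex O e r her
  let L := KC I.cocomplex O e r her
  let ιL : (CochainComplex.single₀ A).obj X ⟶ L := I.ι ≫ E.hom
  have : QuasiIso ιL := inferInstance
  let Kt := CochainComplex.augment L (ιL.f 0) (RDer.res_ι_d L ιL)
  have hKt : Kt.Acyclic := augment_acyclic L ιL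
  have hKO : ∀ i, 𝒪 (Kt.X i) := by
    intro i
    cases i with
    | zero => exact hX
    | succ i => exact prop_K 𝒪 O h0 hO i
  have hf := h1 Kt hKO hKt
  have hex : ((f.mapHomologicalComplex _).obj L).ExactAt (m + 1) := by
    have h3 := hf (m + 2)
    rw [HomologicalComplex.exactAt_iff' _ (m + 1) (m + 2) (m + 3) (by simp) (by simp)] at h3
    rw [HomologicalComplex.exactAt_iff' _ m (m + 1) (m + 2) (by simp) (by simp)]
    exact h3
  have hz : IsZero (((f.mapHomologicalComplex _).obj L).homology (m + 1)) :=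
    (HomologicalComplex.exactAt_iff_isZero_homology _ _).1 hex
  have hEq : E.hom ≫ E.inv = 𝟙 _ := φc_ψc I.cocomplex O e r her
  have hret : HomologicalComplex.homologyMap ((f.mapHomologicalComplex _).map E.hom) (m + 1) ≫
      HomologicalComplex.homologyMap ((f.mapHomologicalComplex _).map E.inv) (m + 1) = 𝟙 _ := by
    rw [← HomologicalComplex.homologyMap_comp, ← CategoryTheory.Functor.map_comp, hEq,
      CategoryTheory.Functor.map_id,
      HomologicalComplex.homologyMap_id]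
  have hzJ : IsZero (((f.mapHomologicalComplex _).obj I.cocomplex).homology (m + 1)) := by
    rw [IsZero.iff_id_eq_zero, ← hret, hz.eq_of_tgt (HomologicalComplex.homologyMap _ _) 0,
      zero_comp]
  exact IsZero.of_iso hzJ (I.isoRightDerivedObj f (m + 1))

end Main

end

end Groth.Agent.Lib.Helper22.AdaptedClass
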