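import Mathlib.RingTheory.Noetherian.Basic
import Mathlib.RingTheory.Jacobson.Ideal
import Mathlib.RingTheory.Finiteness.Defs
import Mathlib.Algebra.Exact.Basic
import Mathlib.Algebra.Algebra.Operations
import Mathlib.RingTheory.Filtration

set_option autoImplicit false

namespace Groth.Agent.Lib.Helper22

universe u

section

variable {A : Type u} [CommRing A] (I : Ideal A) {L M N : Type u}
  [AddCommGroup L] [Module A L] [AddCommGroup M] [Module A M] [AddCommGroup N] [Module A N]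

theorem map_pow_smul_top_mem (h : M →ₗ[A] N) (k : ℕ)
    (hh : ∀ y, h y ∈ I ^ k • (⊤ : Submodule A N)) (r : ℕ) {a : M}
    (ha : a ∈ I ^ r • (⊤ : Submodule A M)) : h a ∈ I ^ (r + k) • (⊤ : Submodule A N) := by
  have : Submodule.map h (I ^ r • ⊤) ≤ I ^ (r + k) • ⊤ := by
    rw [Submodule.map_smul'', pow_add, Submodule.mul_smul]
    apply Submodule.smul_mono le_rfl
    rintro _ ⟨y, -, rfl⟩; exact hh y
  exact this ⟨a, ha, rfl⟩

variable (f f' : L →ₗ[A] M) (g g' : M →ₗ[A] N) (c : ℕ)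

theorem ar_step
    (hf : ∀ n : ℕ, c ≤ n → LinearMap.range f ⊓ (I ^ n • (⊤ : Submodule A M)) ≤
      Submodule.map f (I ^ (n - c) • (⊤ : Submodule A L)))
    (hg : ∀ n : ℕ, c ≤ n → LinearMap.range g ⊓ (I ^ n • (⊤ : Submodule A N)) ≤
      Submodule.map g (I ^ (n - c) • (⊤ : Submodule A M)))
    (hex : Function.Exact f g)
    (hff' : ∀ x : L, f x - f' x ∈ I ^ (c + 1) • (⊤ : Submodule A M))
    (hgg' : ∀ y : M, g y - g' y ∈ I ^ (c + 1) • (⊤ : Submodule A N))
    (n r : ℕ) (hr : r + c + 1 ≤ n) (a : M) (ha : a ∈ I ^ r • (⊤ : Submodule A M))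
    (hga : g' a ∈ I ^ n • (⊤ : Submodule A N)) :
    ∃ b : L, a - f' b ∈ I ^ (r + 1) • (⊤ : Submodule A M) := by
  have h1 : g a - g' a ∈ I ^ (r + (c + 1)) • (⊤ : Submodule A N) :=
    map_pow_smul_top_mem I (g - g') (c + 1) (fun y => hgg' y) r ha
  have h2 : g a ∈ I ^ (r + c + 1) • (⊤ : Submodule A N) := by
    have e : g a = (g a - g' a) + g' a := by abel
    rw [e]
    exact add_mem h1 (Submodule.smul_mono_left (Ideal.pow_le_pow_right hr) hga)
  have h3 : g a ∈ Submodule.map g (I ^ (r + 1) • (⊤ : Submodule A M)) := by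
    have := hg (r + c + 1) (by omega) ⟨⟨a, rfl⟩, h2⟩
    rwa [show r + c + 1 - c = r + 1 by omega] at this
  obtain ⟨a₁, ha₁, hga₁⟩ := h3
  have h4 : a - a₁ ∈ Set.range f := (hex (a - a₁)).mp (by rw [map_sub, hga₁, sub_self])
  obtain ⟨b₀, hb₀⟩ := h4
  have ha₁' : a₁ ∈ I ^ r • (⊤ : Submodule A M) :=
    Submodule.smul_mono_left (Ideal.pow_le_pow_right (Nat.le_succ r)) ha₁
  have h5 : f b₀ ∈ I ^ r • (⊤ : Submodule A M) := hb₀ ▸ sub_mem ha ha₁'
  by_cases hrc : c ≤ r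
  · obtain ⟨b, hb, hfb⟩ := hf r hrc ⟨⟨b₀, rfl⟩, h5⟩
    refine ⟨b, ?_⟩
    have h6 : f b - f' b ∈ I ^ (r - c + (c + 1)) • (⊤ : Submodule A M) :=
      map_pow_smul_top_mem I (f - f') (c + 1) hff' (r - c) hb
    rw [show r - c + (c + 1) = r + 1 by omega] at h6
    have e : a - f' b = (f b - f' b) + a₁ := by rw [hfb, hb₀]; abel
    rw [e]; exact add_mem h6 ha₁
  · refine ⟨b₀, ?_⟩
    have h6 : f b₀ - f' b₀ ∈ I ^ (r + 1) • (⊤ : Submodule A M) :=
      Submodule.smul_mono_left (Ideal.pow_le_pow_right (by omega)) (hff' b₀)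
    have e : a - f' b₀ = (f b₀ - f' b₀) + a₁ := by rw [hb₀]; abel
    rw [e]; exact add_mem h6 ha₁

theorem ar_iter (hgf' : g'.comp f' = 0)
    (hf : ∀ n : ℕ, c ≤ n → LinearMap.range f ⊓ (I ^ n • (⊤ : Submodule A M)) ≤
      Submodule.map f (I ^ (n - c) • (⊤ : Submodule A L)))
    (hg : ∀ n : ℕ, c ≤ n → LinearMap.range g ⊓ (I ^ n • (⊤ : Submodule A N)) ≤
      Submodule.map g (I ^ (n - c) • (⊤ : Submodule A M)))
    (hex : Function.Exact f g)
    (hff' : ∀ x : L, f x - f' x ∈ I ^ (c + 1) • (⊤ : Submodule A M))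
    (hgg' : ∀ y : M, g y - g' y ∈ I ^ (c + 1) • (⊤ : Submodule A N))
    (n : ℕ) (a : M) (hga : g' a ∈ I ^ n • (⊤ : Submodule A N)) :
    ∀ r, r + c ≤ n → ∃ b : L, a - f' b ∈ I ^ r • (⊤ : Submodule A M)
  | 0 => fun _ => ⟨0, by simp⟩
  | r + 1 => by
      intro hr
      obtain ⟨b, hb⟩ := ar_iter hgf' hf hg hex hff' hgg' n a hga r (by omega)
      have e : g' (a - f' b) = g' a := by
        rw [map_sub, show g' (f' b) = 0 from LinearMap.congr_fun hgf' b, sub_zero]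
      obtain ⟨b', hb'⟩ := ar_step I f f' g g' c hf hg hex hff' hgg' n r (by omega) (a - f' b) hb
        (e ▸ hga)
      refine ⟨b + b', ?_⟩
      have e2 : a - f' (b + b') = a - f' b - f' b' := by rw [map_add]; abel
      rw [e2]; exact hb'

theorem ar_works' (hgf' : g'.comp f' = 0)
    (hf : ∀ n : ℕ, c ≤ n → LinearMap.range f ⊓ (I ^ n • (⊤ : Submodule A M)) ≤
      Submodule.map f (I ^ (n - c) • (⊤ : Submodule A L)))
    (hg : ∀ n : ℕ, c ≤ n → LinearMap.range g ⊓ (I ^ n • (⊤ : Submodule A N)) ≤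
      Submodule.map g (I ^ (n - c) • (⊤ : Submodule A M)))
    (hex : Function.Exact f g)
    (hff' : ∀ x : L, f x - f' x ∈ I ^ (c + 1) • (⊤ : Submodule A M))
    (hgg' : ∀ y : M, g y - g' y ∈ I ^ (c + 1) • (⊤ : Submodule A N)) :
    ∀ n : ℕ, c ≤ n → LinearMap.range g' ⊓ (I ^ n • (⊤ : Submodule A N)) ≤
      Submodule.map g' (I ^ (n - c) • (⊤ : Submodule A M)) := by
  rintro n hn x ⟨⟨a, rfl⟩, hx⟩
  obtain ⟨b, hb⟩ := ar_iter I f f' g g' c hgf' hf hg hex hff' hgg' n a hx (n - c) (by omega)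
  refine ⟨a - f' b, hb, ?_⟩
  rw [map_sub, show g' (f' b) = 0 from LinearMap.congr_fun hgf' b, sub_zero]

theorem ar_exact' [IsNoetherianRing A] [Module.Finite A M]
    (hI : I ≤ Ideal.jacobson (⊥ : Ideal A)) (hgf' : g'.comp f' = 0)
    (hf : ∀ n : ℕ, c ≤ n → LinearMap.range f ⊓ (I ^ n • (⊤ : Submodule A M)) ≤
      Submodule.map f (I ^ (n - c) • (⊤ : Submodule A L)))
    (hg : ∀ n : ℕ, c ≤ n → LinearMap.range g ⊓ (I ^ n • (⊤ : Submodule A N)) ≤
      Submodule.map g (I ^ (n - c) • (⊤ : Submodule A M)))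
    (hex : Function.Exact f g)
    (hff' : ∀ x : L, f x - f' x ∈ I ^ (c + 1) • (⊤ : Submodule A M))
    (hgg' : ∀ y : M, g y - g' y ∈ I ^ (c + 1) • (⊤ : Submodule A N)) :
    Function.Exact f' g' := by
  intro y
  constructor
  · intro hy
    have hmem : ∀ r, (LinearMap.range f').mkQ y ∈
        I ^ r • (⊤ : Submodule A (M ⧸ LinearMap.range f')) := by
      intro r
      obtain ⟨b, hb⟩ := ar_iter I f f' g g' c hgf' hf hg hex hff' hgg' (r + c) y
        (by rw [hy]; exact zero_mem _) r le_rfl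
      have e : (LinearMap.range f').mkQ y = (LinearMap.range f').mkQ (y - f' b) := by
        have hfb : (Submodule.Quotient.mk (f' b) : M ⧸ LinearMap.range f') = 0 :=
          (Submodule.Quotient.mk_eq_zero _).mpr (LinearMap.mem_range_self f' b)
        rw [map_sub, Submodule.mkQ_apply, Submodule.mkQ_apply, hfb, sub_zero]
      rw [e]
      have : Submodule.map (LinearMap.range f').mkQ (I ^ r • ⊤) ≤
          I ^ r • (⊤ : Submodule A (M ⧸ LinearMap.range f')) := by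
        rw [Submodule.map_smul'']
        exact Submodule.smul_mono le_rfl le_top
      exact this ⟨_, hb, rfl⟩
    have hbot := Ideal.iInf_pow_smul_eq_bot_of_le_jacobson (M := M ⧸ LinearMap.range f') I hI
    have h0 : (LinearMap.range f').mkQ y ∈ (⨅ i : ℕ, I ^ i • ⊤ : Submodule A _) :=
      (Submodule.mem_iInf _).mpr hmem
    rw [hbot, Submodule.mem_bot, Submodule.mkQ_apply, Submodule.Quotient.mk_eq_zero] at h0
    exact h0
  · rintro ⟨x, rfl⟩
    exact LinearMap.congr_fun hgf' x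

end

end Groth.Agent.Lib.Helper22
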