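import Mathlib.NumberTheory.ZetaValues
import Mathlib.Algebra.Polynomial.Eval.Degree

/-!
# Signs of the even Bernoulli numbers, and eventual negativity of `-a p^N + P(p)`
-/

set_option autoImplicit false

namespace Groth.Agent.Lib.Helper22

open Real

/-- `(-1)^(k+1) B_{2k} > 0` for `k ≥ 1`. -/
theorem bernoulli_sign {k : ℕ} (hk : k ≠ 0) : 0 < (-1 : ℚ) ^ (k + 1) * bernoulli (2 * k) := by
  have hs := hasSum_zeta_nat hk
  have h1 : (1 : ℝ) ≤ (-1 : ℝ) ^ (k + 1) * (2 : ℝ) ^ (2 * k - 1) * π ^ (2 * k) *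
      bernoulli (2 * k) / (Nat.factorial (2 * k) : ℝ) := by
    have := le_hasSum hs 1 (fun j _ => by positivity)
    simpa using this
  have hpos : (0 : ℝ) < (2 : ℝ) ^ (2 * k - 1) * π ^ (2 * k) / (Nat.factorial (2 * k) : ℝ) := by
    positivity
  have h2 : (0 : ℝ) < (-1 : ℝ) ^ (k + 1) * (bernoulli (2 * k) : ℝ) := by
    by_contra hcon
    push Not at hcon
    have : (-1 : ℝ) ^ (k + 1) * (2 : ℝ) ^ (2 * k - 1) * π ^ (2 * k) *
        bernoulli (2 * k) / (Nat.factorial (2 * k) : ℝ) =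
        ((-1 : ℝ) ^ (k + 1) * (bernoulli (2 * k) : ℝ)) *
          ((2 : ℝ) ^ (2 * k - 1) * π ^ (2 * k) / (Nat.factorial (2 * k) : ℝ)) := by ring
    rw [this] at h1
    have := mul_nonpos_of_nonpos_of_nonneg hcon hpos.le
    linarith
  have h3 : ((0 : ℚ) : ℝ) < (((-1 : ℚ) ^ (k + 1) * bernoulli (2 * k) : ℚ) : ℝ) := by
    push_cast
    exact h2
  exact_mod_cast h3

theorem bernoulli'_four_mul_neg {j : ℕ} (hj : j ≠ 0) : bernoulli' (4 * j) < 0 := by
  have h := bernoulli_sign (k := 2 * j) (by omega)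
  have e : 2 * (2 * j) = 4 * j := by ring
  rw [e] at h
  have hne : 4 * j ≠ 1 := by omega
  rw [bernoulli_eq_bernoulli'_of_ne_one hne] at h
  have hodd : Odd (2 * j + 1) := ⟨j, rfl⟩
  rw [hodd.neg_one_pow] at h
  linarith

theorem bernoulli'_four_mul_add_two_pos (j : ℕ) : 0 < bernoulli' (4 * j + 2) := by
  have h := bernoulli_sign (k := 2 * j + 1) (by omega)
  have e : 2 * (2 * j + 1) = 4 * j + 2 := by ring
  rw [e] at h
  have hne : 4 * j + 2 ≠ 1 := by omega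
  rw [bernoulli_eq_bernoulli'_of_ne_one hne] at h
  have heven : Even (2 * j + 1 + 1) := ⟨j + 1, by ring⟩
  rw [heven.neg_one_pow, one_mul] at h
  exact h

/-- `-a p^N + P(p)` is eventually negative when `a > 0` and `deg P < N`. -/
theorem eventually_neg_of_natDegree_lt (a : ℚ) (ha : 0 < a) (N : ℕ) (hN : 1 ≤ N)
    (P : Polynomial ℚ) (hP : P.natDegree ≤ N - 1) :
    ∃ P₀ : ℕ, ∀ p : ℕ, P₀ ≤ p → -a * (p : ℚ) ^ N + P.eval (p : ℚ) < 0 := by
  set C : ℚ := ∑ i ∈ Finset.range (P.natDegree + 1), |P.coeff i| with hC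
  have hC0 : 0 ≤ C := Finset.sum_nonneg fun i _ => abs_nonneg _
  obtain ⟨P₀, hP₀⟩ := exists_nat_gt (C / a)
  refine ⟨max P₀ 1, ?_⟩
  intro p hp
  have hp1 : (1 : ℚ) ≤ p := by
    have : 1 ≤ p := le_trans (le_max_right _ _) hp
    exact_mod_cast this
  have hpP₀ : (P₀ : ℚ) ≤ p := by
    have : P₀ ≤ p := le_trans (le_max_left _ _) hp
    exact_mod_cast this
  have hap : C < a * p := by
    have : C / a < p := lt_of_lt_of_le hP₀ hpP₀
    rw [div_lt_iff₀ ha] at this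
    linarith
  have hbound : P.eval (p : ℚ) ≤ C * (p : ℚ) ^ (N - 1) := by
    rw [Polynomial.eval_eq_sum_range, hC, Finset.sum_mul]
    refine Finset.sum_le_sum ?_
    intro i hi
    have hi' : i ≤ N - 1 := le_trans (Nat.lt_succ_iff.mp (Finset.mem_range.mp hi)) hP
    have h1 : (p : ℚ) ^ i ≤ (p : ℚ) ^ (N - 1) := pow_le_pow_right₀ hp1 hi'
    have h2 : (0 : ℚ) ≤ (p : ℚ) ^ i := by positivity
    calc P.coeff i * (p : ℚ) ^ i ≤ |P.coeff i| * (p : ℚ) ^ i :=
          mul_le_mul_of_nonneg_right (le_abs_self _) h2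
      _ ≤ |P.coeff i| * (p : ℚ) ^ (N - 1) := mul_le_mul_of_nonneg_left h1 (abs_nonneg _)
  have hpow : (p : ℚ) ^ N = (p : ℚ) * (p : ℚ) ^ (N - 1) := by
    rw [← pow_succ']
    congr 1
    omega
  have hpos : (0 : ℚ) < (p : ℚ) ^ (N - 1) := by positivity
  rw [hpow]
  nlinarith

end Groth.Agent.Lib.Helper22
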