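import Mathlib

/-!
# Abstract Mayer–Vietoris for right derived functors

Given additive functors `P Q₁ Q₂ R : C ⥤ D` and natural transformations
`a₁ : P ⟶ Q₁`, `a₂ : P ⟶ Q₂`, `b₁ : Q₁ ⟶ R`, `b₂ : Q₂ ⟶ R` with `a₁ ≫ b₁ = a₂ ≫ b₂` such that
`0 → P I → Q₁ I ⊞ Q₂ I → R I → 0` is short exact for every injective `I`, we get a long exact
sequence of right derived functors.
-/

namespace Groth.Agent.Lib.Helper22.DerivedMV

open CategoryTheory Limits

universe v v' u u'

section scM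

variable {B : Type*} [Category B] [Preadditive B] [HasBinaryBiproducts B]
  {X A₁ A₂ Z : B} (α₁ : X ⟶ A₁) (α₂ : X ⟶ A₂) (β₁ : A₁ ⟶ Z) (β₂ : A₂ ⟶ Z)

/-- The Mayer–Vietoris short complex `X → A₁ ⊞ A₂ → Z` of a commutative square. -/
noncomputable abbrev scM (hw : α₁ ≫ β₁ = α₂ ≫ β₂) : ShortComplex B :=
  ShortComplex.mk (biprod.lift α₁ α₂) (biprod.desc β₁ (-β₂))
    (by rw [biprod.lift_desc, Preadditive.comp_neg, ← sub_eq_add_neg, sub_eq_zero, hw])

variable {B' : Type*} [Category B'] [Preadditive B'] [HasBinaryBiproducts B'] (E : B ⥤ B')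
  [E.Additive] [PreservesBinaryBiproducts E]

/-- An additive functor maps the Mayer–Vietoris short complex to the Mayer–Vietoris short complex. -/
noncomputable def scMMapIso (hw : α₁ ≫ β₁ = α₂ ≫ β₂) :
    (scM α₁ α₂ β₁ β₂ hw).map E ≅ scM (E.map α₁) (E.map α₂) (E.map β₁) (E.map β₂)
      (by rw [← E.map_comp, hw, E.map_comp]) :=
  ShortComplex.isoMk (Iso.refl _) (E.mapBiprod _ _) (Iso.refl _)
    (by
      refine (Category.id_comp _).trans ?_
      exact (biprod.map_lift_mapBiprod E _ _ α₁ α₂).symm)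
    (by
      refine Eq.trans ?_ (Category.comp_id _).symm
      have := biprod.mapBiprod_hom_desc E _ _ β₁ (-β₂)
      rw [E.map_neg] at this
      exact this)

end scM

variable {C : Type u} [Category.{v} C] [Abelian C]
  {D : Type u'} [Category.{v'} D] [Abelian D]
  {P Q₁ Q₂ R : C ⥤ D} [P.Additive] [Q₁.Additive] [Q₂.Additive] [R.Additive]
  (a₁ : P ⟶ Q₁) (a₂ : P ⟶ Q₂) (b₁ : Q₁ ⟶ R) (b₂ : Q₂ ⟶ R)

/-- The Mayer–Vietoris short complex at an object. -/
@[simps]
noncomputable def sc (hw : a₁ ≫ b₁ = a₂ ≫ b₂) (X : C) : ShortComplex D :=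
  ShortComplex.mk (biprod.lift (a₁.app X) (a₂.app X)) (biprod.desc (b₁.app X) (-(b₂.app X)))
    (by
      rw [biprod.lift_desc, Preadditive.comp_neg, ← sub_eq_add_neg, sub_eq_zero,
        ← NatTrans.comp_app, ← NatTrans.comp_app, hw])

variable {a₁ a₂ b₁ b₂}

section

variable (hw : a₁ ≫ b₁ = a₂ ≫ b₂) (K : CochainComplex C ℕ)

/-- The Mayer–Vietoris short complex of complexes. -/
noncomputable abbrev scK : ShortComplex (CochainComplex D ℕ) :=
  ShortComplex.mk
    (biprod.lift ((NatTrans.mapHomologicalComplex a₁ (ComplexShape.up ℕ)).app K)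
      ((NatTrans.mapHomologicalComplex a₂ (ComplexShape.up ℕ)).app K))
    (biprod.desc ((NatTrans.mapHomologicalComplex b₁ (ComplexShape.up ℕ)).app K)
      (-((NatTrans.mapHomologicalComplex b₂ (ComplexShape.up ℕ)).app K)))
    (by
      rw [biprod.lift_desc, Preadditive.comp_neg, ← sub_eq_add_neg, sub_eq_zero,
        ← NatTrans.comp_app, ← NatTrans.comp_app, ← NatTrans.mapHomologicalComplex_comp,
        ← NatTrans.mapHomologicalComplex_comp, hw])

/-- Degreewise, `scK` is `sc`. -/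
noncomputable def scKEvalIso (i : ℕ) :
    (scK hw K).map (HomologicalComplex.eval D (ComplexShape.up ℕ) i) ≅ sc a₁ a₂ b₁ b₂ hw (K.X i) :=
  ShortComplex.isoMk (Iso.refl _)
    ((HomologicalComplex.eval D (ComplexShape.up ℕ) i).mapBiprod _ _) (Iso.refl _)
    (by
      refine (Category.id_comp _).trans ?_
      exact (biprod.map_lift_mapBiprod (HomologicalComplex.eval D (ComplexShape.up ℕ) i) _ _
        ((NatTrans.mapHomologicalComplex a₁ (ComplexShape.up ℕ)).app K)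
        ((NatTrans.mapHomologicalComplex a₂ (ComplexShape.up ℕ)).app K)).symm)
    (by
      refine Eq.trans ?_ (Category.comp_id _).symm
      exact biprod.mapBiprod_hom_desc (HomologicalComplex.eval D (ComplexShape.up ℕ) i) _ _
        ((NatTrans.mapHomologicalComplex b₁ (ComplexShape.up ℕ)).app K)
        (-((NatTrans.mapHomologicalComplex b₂ (ComplexShape.up ℕ)).app K)))

lemma scK_shortExact (h : ∀ i, (sc a₁ a₂ b₁ b₂ hw (K.X i)).ShortExact) : (scK hw K).ShortExact :=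
  HomologicalComplex.shortExact_of_degreewise_shortExact _ fun i =>
    ShortComplex.shortExact_of_iso (scKEvalIso hw K i).symm (h i)

end

lemma exact_mk₂_of_iso {A : Type*} [Category A] [Abelian A] {X₁ X₂ X₃ Y₁ Y₂ Y₃ : A}
    (f : X₁ ⟶ X₂) (g : X₂ ⟶ X₃) (f' : Y₁ ⟶ Y₂) (g' : Y₂ ⟶ Y₃) (w' : f' ≫ g' = 0)
    (h : (ShortComplex.mk f' g' w').Exact) (e₁ : X₁ ≅ Y₁) (e₂ : X₂ ≅ Y₂) (e₃ : X₃ ≅ Y₃)
    (c₁ : f ≫ e₂.hom = e₁.hom ≫ f') (c₂ : g ≫ e₃.hom = e₂.hom ≫ g') :
    (ComposableArrows.mk₂ f g).Exact := by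
  have w : f ≫ g = 0 := by
    rw [← cancel_mono e₃.hom, Category.assoc, c₂, reassoc_of% c₁, w', comp_zero, zero_comp]
  have e : ShortComplex.mk f g w ≅ ShortComplex.mk f' g' w' :=
    ShortComplex.isoMk e₁ e₂ e₃ c₁.symm c₂.symm
  exact ((ShortComplex.exact_iff_of_iso e).2 h).exact_toComposableArrows

section General

variable {A : Type*} {B : Type*} [Category A] [Category B] [Preadditive A] [Preadditive B]
  [HasBinaryBiproducts A] [HasBinaryBiproducts B] (G : A ⥤ B) [G.Additive]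
  [PreservesBinaryBiproducts G]
  {K K₁ K₂ K₃ : A} {X X₁ X₂ X₃ : B} (e : X ≅ G.obj K) (e₁ : X₁ ≅ G.obj K₁) (e₂ : X₂ ≅ G.obj K₂)
  (e₃ : X₃ ≅ G.obj K₃)

noncomputable def eBi : X₁ ⊞ X₂ ≅ G.obj (K₁ ⊞ K₂) :=
  biprod.mapIso e₁ e₂ ≪≫ (G.mapBiprod K₁ K₂).symm

lemma lift_comm (φ₁ : K ⟶ K₁) (φ₂ : K ⟶ K₂) (A₁ : X ⟶ X₁) (A₂ : X ⟶ X₂)
    (h₁ : A₁ = e.hom ≫ G.map φ₁ ≫ e₁.inv) (h₂ : A₂ = e.hom ≫ G.map φ₂ ≫ e₂.inv) :
    biprod.lift A₁ A₂ ≫ (eBi G e₁ e₂).hom = e.hom ≫ G.map (biprod.lift φ₁ φ₂) := by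
  rw [← cancel_mono (G.mapBiprod K₁ K₂).hom]
  subst h₁ h₂
  simp only [eBi, Iso.trans_hom, Iso.symm_hom, Category.assoc, Iso.inv_hom_id, Category.comp_id,
    biprod.map_lift_mapBiprod, biprod.mapIso_hom, Iso.inv_hom_id]
  ext
  · simp only [Category.assoc, biprod.map_fst, biprod.lift_fst_assoc, biprod.lift_fst,
      Iso.inv_hom_id, Category.comp_id]
  · simp only [Category.assoc, biprod.map_snd, biprod.lift_snd_assoc, biprod.lift_snd,
      Iso.inv_hom_id, Category.comp_id]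

lemma desc_comm (ψ₁ : K₁ ⟶ K₃) (ψ₂ : K₂ ⟶ K₃) (B₁ : X₁ ⟶ X₃) (B₂ : X₂ ⟶ X₃)
    (h₁ : B₁ = e₁.hom ≫ G.map ψ₁ ≫ e₃.inv) (h₂ : B₂ = e₂.hom ≫ G.map ψ₂ ≫ e₃.inv) :
    biprod.desc B₁ (-B₂) ≫ e₃.hom = (eBi G e₁ e₂).hom ≫ G.map (biprod.desc ψ₁ (-ψ₂)) := by
  subst h₁ h₂
  simp only [eBi, Iso.trans_hom, Iso.symm_hom, Category.assoc, biprod.mapBiprod_inv_map_desc,
    biprod.mapIso_hom, Functor.map_neg]
  ext
  · simp only [biprod.inl_desc_assoc, Category.assoc, Iso.inv_hom_id, Category.comp_id,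
      biprod.inl_map_assoc, biprod.inl_desc]
  · simp only [biprod.inr_desc_assoc, Category.assoc, Iso.inv_hom_id, Category.comp_id,
      biprod.inr_map_assoc, biprod.inr_desc, Preadditive.neg_comp, Preadditive.comp_neg]

end General

variable [HasInjectiveResolutions C]

instance (n : ℕ) : PreservesBinaryBiproducts
    (HomologicalComplex.homologyFunctor D (ComplexShape.up ℕ) n) :=
  preservesBinaryBiproducts_of_preservesBiproducts _

lemma mono_homologyMap_zero {K L : CochainComplex D ℕ} (φ : K ⟶ L) [Mono (φ.f 0)] :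
    Mono (HomologicalComplex.homologyMap φ 0) := by
  have h : HomologicalComplex.homologyMap φ 0 =
      K.isoHomologyπ₀.inv ≫ HomologicalComplex.cyclesMap φ 0 ≫ L.isoHomologyπ₀.hom := by
    rw [← Category.assoc, ← CochainComplex.isoHomologyπ₀_inv_naturality, Category.assoc,
      Iso.inv_hom_id, Category.comp_id]
  rw [h]
  infer_instance

lemma comp_inv_hom {A : Type*} [Category A] {W X Y Z : A} (x : W ⟶ X) (y : X ⟶ Y) (e : Z ≅ Y) :
    (x ≫ y ≫ e.inv) ≫ e.hom = x ≫ y := by simp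

theorem main (hw : a₁ ≫ b₁ = a₂ ≫ b₂)
    (h : ∀ (I : C) [Injective I], (sc a₁ a₂ b₁ b₂ hw I).ShortExact) (F : C) :
    ∃ δ : ∀ n : ℕ, (R.rightDerived n).obj F ⟶ (P.rightDerived (n + 1)).obj F,
      Mono (biprod.lift ((NatTrans.rightDerived a₁ 0).app F)
        ((NatTrans.rightDerived a₂ 0).app F)) ∧
      ∀ n : ℕ,
        (ComposableArrows.mk₂
          (biprod.lift ((NatTrans.rightDerived a₁ n).app F) ((NatTrans.rightDerived a₂ n).app F))
          (biprod.desc ((NatTrans.rightDerived b₁ n).app F)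
            (-((NatTrans.rightDerived b₂ n).app F)))).Exact ∧
        (ComposableArrows.mk₂
          (biprod.desc ((NatTrans.rightDerived b₁ n).app F)
            (-((NatTrans.rightDerived b₂ n).app F)))
          (δ n)).Exact ∧
        (ComposableArrows.mk₂ (δ n)
          (biprod.lift ((NatTrans.rightDerived a₁ (n + 1)).app F)
            ((NatTrans.rightDerived a₂ (n + 1)).app F))).Exact := by
  let I : InjectiveResolution F := injectiveResolution F
  have hrel : ∀ n : ℕ, (ComplexShape.up ℕ).Rel n (n + 1) := fun n => by simp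
  have hS : (scK hw I.cocomplex).ShortExact :=
    scK_shortExact hw _ (fun i => by have := I.injective i; exact h _)
  let G : ∀ n : ℕ, CochainComplex D ℕ ⥤ D := fun n =>
    HomologicalComplex.homologyFunctor D (ComplexShape.up ℕ) n
  let eP := fun n => I.isoRightDerivedObj P n
  let e₁ := fun n => I.isoRightDerivedObj Q₁ n
  let e₂ := fun n => I.isoRightDerivedObj Q₂ n
  let eR := fun n => I.isoRightDerivedObj R n
  have cA : ∀ n, biprod.lift ((NatTrans.rightDerived a₁ n).app F)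
      ((NatTrans.rightDerived a₂ n).app F) ≫ (eBi (G n) (e₁ n) (e₂ n)).hom =
      (eP n).hom ≫ (G n).map (scK hw I.cocomplex).f := fun n =>
    lift_comm (G n) (eP n) (e₁ n) (e₂ n) _ _ _ _
      (InjectiveResolution.rightDerived_app_eq a₁ I n)
      (InjectiveResolution.rightDerived_app_eq a₂ I n)
  have cB : ∀ n, biprod.desc ((NatTrans.rightDerived b₁ n).app F)
      (-((NatTrans.rightDerived b₂ n).app F)) ≫ (eR n).hom =
      (eBi (G n) (e₁ n) (e₂ n)).hom ≫ (G n).map (scK hw I.cocomplex).g := fun n =>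
    desc_comm (G n) (e₁ n) (e₂ n) (eR n) _ _ _ _
      (InjectiveResolution.rightDerived_app_eq b₁ I n)
      (InjectiveResolution.rightDerived_app_eq b₂ I n)
  let δ : ∀ n : ℕ, (R.rightDerived n).obj F ⟶ (P.rightDerived (n + 1)).obj F := fun n =>
    (eR n).hom ≫ hS.δ n (n + 1) (hrel n) ≫ (eP (n + 1)).inv
  have cδ : ∀ n, δ n ≫ (eP (n + 1)).hom = (eR n).hom ≫ hS.δ n (n + 1) (hrel n) := fun n => by
    exact comp_inv_hom _ _ _
  refine ⟨δ, ?_, fun n => ⟨?_, ?_, ?_⟩⟩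
  · have hm : Mono ((scK hw I.cocomplex).f.f 0) := by
      have := hS.mono_f
      infer_instance
    have : Mono ((G 0).map (scK hw I.cocomplex).f) := mono_homologyMap_zero _
    have : Mono (biprod.lift ((NatTrans.rightDerived a₁ 0).app F)
        ((NatTrans.rightDerived a₂ 0).app F) ≫ (eBi (G 0) (e₁ 0) (e₂ 0)).hom) := by
      rw [cA 0]
      infer_instance
    exact mono_of_mono _ (eBi (G 0) (e₁ 0) (e₂ 0)).hom
  · exact exact_mk₂_of_iso _ _ _ _ _ (hS.homology_exact₂ n) (eP n) (eBi (G n) (e₁ n) (e₂ n))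
      (eR n) (cA n) (cB n)
  · exact exact_mk₂_of_iso _ _ _ _ _ (hS.homology_exact₃ n (n + 1) (hrel n))
      (eBi (G n) (e₁ n) (e₂ n)) (eR n) (eP (n + 1)) (cB n) (cδ n)
  · exact exact_mk₂_of_iso _ _ _ _ _ (hS.homology_exact₁ n (n + 1) (hrel n))
      (eR n) (eP (n + 1)) (eBi (G (n + 1)) (e₁ (n + 1)) (e₂ (n + 1))) (cδ n) (cA (n + 1))

end Groth.Agent.Lib.Helper22.DerivedMV
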