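import Groth.Agent.Lib.Helper22.DimZero
import Groth.Agent.S7528
import Mathlib.AlgebraicGeometry.Morphisms.QuasiSeparated
import Mathlib.AlgebraicGeometry.Properties
import Mathlib.Topology.Separation.Profinite
import Mathlib.AlgebraicGeometry.Limits
import Mathlib.AlgebraicGeometry.Morphisms.ClosedImmersion
import Mathlib.AlgebraicGeometry.Morphisms.Affine
import Mathlib.AlgebraicGeometry.Morphisms.QuasiCompact

/-!
# Schemes without nontrivial specializations (dimension `≤ 0`)
-/

universe u

namespace Groth.Agent.Lib.Helper22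

open AlgebraicGeometry TopologicalSpace CategoryTheory

/-- An affine scheme is a spectral space. -/
theorem spectralSpace_of_isAffine (Y : Scheme.{u}) [IsAffine Y] : SpectralSpace Y where

/-- An affine scheme without nontrivial specializations is profinite, and its compact opens are
closed. -/
theorem affine_profinite (Y : Scheme.{u}) [IsAffine Y] (h : ∀ x y : Y, x ⤳ y → x = y) :
    (T2Space Y ∧ TotallyDisconnectedSpace Y) ∧
      ∀ W : Set Y, IsOpen W → IsCompact W → IsClosed W := by
  haveI := spectralSpace_of_isAffine Y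
  have tfae := Groth.Agent.S7528.result Y
  exact ⟨(tfae.out 4 0).mp h, (tfae.out 4 3).mp h⟩

/-- Specializations in an open subscheme. -/
theorem opens_specializes_eq {X : Scheme.{u}} (h : ∀ x y : X, x ⤳ y → x = y) (U : X.Opens)
    (x y : U.toScheme) (hxy : x ⤳ y) : x = y := by
  have h1 : U.ι x ⤳ U.ι y := hxy.map U.ι.continuous
  exact U.ι.isOpenEmbedding.injective (h _ _ h1)

/-- In a quasi-separated scheme without nontrivial specializations, affine opens are closed. -/
theorem isClosed_of_isAffineOpen {X : Scheme.{u}} [QuasiSeparatedSpace X]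
    (h : ∀ x y : X, x ⤳ y → x = y) (U : X.Opens) (hU : IsAffineOpen U) :
    IsClosed (U : Set X) := by
  rw [← isOpen_compl_iff, isOpen_iff_forall_mem_open]
  intro z hz
  obtain ⟨V, hV, hzV, -⟩ := exists_isAffineOpen_mem_and_subset (x := z) (U := ⊤) trivial
  haveI : IsAffine V.toScheme := hV
  have hcl := (affine_profinite V.toScheme (opens_specializes_eq h V)).2
  -- `U ∩ V` as a subset of `V`
  have hUV : IsCompact ((U : Set X) ∩ V) :=
    QuasiSeparatedSpace.inter_isCompact _ _ U.2 hU.isCompact V.2 hV.isCompact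
  have hemb := V.ι.isOpenEmbedding
  have hpre : IsCompact (V.ι ⁻¹' ((U : Set X) ∩ V)) := by
    rw [hemb.isInducing.isCompact_iff, Set.image_preimage_eq_inter_range, Scheme.Opens.range_ι,
      Set.inter_assoc, Set.inter_self]
    exact hUV
  have hclosed : IsClosed (V.ι ⁻¹' ((U : Set X) ∩ V)) :=
    hcl _ ((U.2.inter V.2).preimage V.ι.continuous) hpre
  refine ⟨V.ι '' (V.ι ⁻¹' ((U : Set X) ∩ V))ᶜ, ?_, hemb.isOpenMap _ hclosed.isOpen_compl, ?_⟩
  · rintro _ ⟨w, hw, rfl⟩ hwU
    apply hw
    refine ⟨hwU, ?_⟩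
    have : V.ι w ∈ Set.range V.ι := ⟨w, rfl⟩
    rwa [Scheme.Opens.range_ι] at this
  · have hz' : z ∈ Set.range V.ι := by rw [Scheme.Opens.range_ι]; exact hzV
    obtain ⟨w, rfl⟩ := hz'
    exact ⟨w, fun hw => hz hw.1, rfl⟩

/-- A quasi-separated scheme without nontrivial specializations is totally separated. -/
theorem totallySeparatedSpace_of_specializes_eq {X : Scheme.{u}} [QuasiSeparatedSpace X]
    (h : ∀ x y : X, x ⤳ y → x = y) : TotallySeparatedSpace X := by
  rw [totallySeparatedSpace_iff_exists_isClopen]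
  intro x y hxy
  obtain ⟨U, hU, hxU, -⟩ := exists_isAffineOpen_mem_and_subset (x := x) (U := ⊤) trivial
  have hUcl := isClosed_of_isAffineOpen h U hU
  by_cases hyU : y ∈ U
  · haveI : IsAffine U.toScheme := hU
    obtain ⟨⟨h1, h2⟩, -⟩ := affine_profinite U.toScheme (opens_specializes_eq h U)
    haveI := h1
    haveI := h2
    have hemb := U.ι.isOpenEmbedding
    have hx' : x ∈ Set.range U.ι := by rw [Scheme.Opens.range_ι]; exact hxU
    have hy' : y ∈ Set.range U.ι := by rw [Scheme.Opens.range_ι]; exact hyU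
    obtain ⟨x', rfl⟩ := hx'
    obtain ⟨y', rfl⟩ := hy'
    have hne : x' ≠ y' := fun e => hxy (by rw [e])
    obtain ⟨W, hW, hxW, hyW⟩ := exists_isClopen_of_totally_separated hne
    refine ⟨U.ι '' W, ⟨?_, hemb.isOpenMap _ hW.2⟩, ⟨x', hxW, rfl⟩, ?_⟩
    · have hcemb : Topology.IsClosedEmbedding U.ι :=
        ⟨hemb.isEmbedding, by rw [Scheme.Opens.range_ι]; exact hUcl⟩
      exact hcemb.isClosedMap _ hW.1
    · rintro ⟨w, hw, hwy⟩
      exact hyW (hemb.injective hwy ▸ hw)
  · exact ⟨U, ⟨hUcl, U.2⟩, hxU, hyU⟩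

end Groth.Agent.Lib.Helper22

namespace Groth.Agent.Lib.Helper22

open AlgebraicGeometry TopologicalSpace CategoryTheory Limits

/-- An open subscheme of an affine open which is closed in it is affine. -/
theorem isAffineOpen_of_le_of_isClosed {X : Scheme.{u}} {V U : X.Opens} (hVU : V ≤ U)
    (hU : IsAffineOpen U) (hV : IsClosed (V : Set X)) : IsAffineOpen V := by
  haveI : IsAffine U.toScheme := hU
  have hrange : IsClosed (Set.range (X.homOfLE hVU)) := by
    have h1 : Set.range (X.homOfLE hVU) = ((X.homOfLE hVU).opensRange : Set U.toScheme) := rfl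
    rw [h1, Scheme.opensRange_homOfLE]
    exact hV.preimage U.ι.continuous
  haveI : IsClosedImmersion (X.homOfLE hVU) := IsClosedImmersion.of_isPreimmersion _ hrange
  exact isAffine_of_isAffineHom (X.homOfLE hVU)

/-- The union of two disjoint affine opens is affine. -/
theorem isAffineOpen_sup_of_disjoint {X : Scheme.{u}} {W₁ W₂ : X.Opens}
    (h₁ : IsAffineOpen W₁) (h₂ : IsAffineOpen W₂) (hd : Disjoint W₁ W₂) :
    IsAffineOpen (W₁ ⊔ W₂) := by
  haveI : IsAffine W₁.toScheme := h₁
  haveI : IsAffine W₂.toScheme := h₂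
  have hc : IsCompl (X.homOfLE (le_sup_left : W₁ ≤ W₁ ⊔ W₂)).opensRange
      (X.homOfLE (le_sup_right : W₂ ≤ W₁ ⊔ W₂)).opensRange := by
    rw [Scheme.opensRange_homOfLE, Scheme.opensRange_homOfLE]
    constructor
    · rw [disjoint_iff, ← Scheme.Hom.preimage_inf, disjoint_iff.mp hd]
      rfl
    · rw [codisjoint_iff, ← Scheme.Hom.preimage_sup]
      ext x
      simp only [Scheme.Hom.coe_preimage, Set.mem_preimage, SetLike.mem_coe, Opens.coe_top,
        Set.mem_univ, iff_true]
      exact x.2
  obtain ⟨hcol⟩ := nonempty_isColimit_binaryCofanMk_of_isCompl _ _ hc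
  let e : (W₁ ⊔ W₂).toScheme ≅ W₁.toScheme ⨿ W₂.toScheme :=
    hcol.coconePointUniqueUpToIso (colimit.isColimit _)
  exact IsAffine.of_isIso e.hom

/-- In a quasi-separated scheme without nontrivial specializations, every quasi-compact open is
affine. -/
theorem isAffineOpen_of_isCompact {X : Scheme.{u}} [QuasiSeparatedSpace X]
    (h : ∀ x y : X, x ⤳ y → x = y) (U : X.Opens) (hU : IsCompact (U : Set X)) :
    IsAffineOpen U := by
  refine compact_open_induction_on (P := fun U => IsAffineOpen U) U hU (isAffineOpen_bot X) ?_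
  intro S _ W hS
  have hScl : IsClosed (S : Set X) := isClosed_of_isAffineOpen h S hS
  have hWcl : IsClosed (W.1 : Set X) := isClosed_of_isAffineOpen h W.1 W.2
  let V : X.Opens := ⟨(W.1 : Set X) ∩ (S : Set X)ᶜ, W.1.2.inter hScl.isOpen_compl⟩
  have hVW : V ≤ W.1 := fun x hx => hx.1
  have hVcl : IsClosed (V : Set X) := hWcl.inter S.2.isClosed_compl
  have hV : IsAffineOpen V := isAffineOpen_of_le_of_isClosed hVW W.2 hVcl
  have hd : Disjoint S V := by
    rw [disjoint_iff]
    ext x
    simp only [Opens.coe_inf, Set.mem_inter_iff, SetLike.mem_coe, Opens.coe_bot,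
      Set.mem_empty_iff_false, iff_false, not_and]
    intro hxS hxV
    exact hxV.2 hxS
  have hsup : S ⊔ W.1 = S ⊔ V := by
    ext x
    simp only [Opens.coe_sup, Set.mem_union, SetLike.mem_coe]
    constructor
    · rintro (hx | hx)
      · exact Or.inl hx
      · by_cases hxS : x ∈ S
        · exact Or.inl hxS
        · exact Or.inr ⟨hx, hxS⟩
    · rintro (hx | hx)
      · exact Or.inl hx
      · exact Or.inr hx.1
  rw [hsup]
  exact isAffineOpen_sup_of_disjoint hS hV hd

end Groth.Agent.Lib.Helper22
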