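import Mathlib.Algebra.Group.Subgroup.Basic
import Mathlib.Tactic.Linarith
import Mathlib.Tactic.Ring
import Mathlib.Data.Int.Basic

/-!
# Orthogonal decompositions of positive definite integral lattices (Eichler-type argument)

If a positive definite integral lattice `Y` has two orthogonal decompositions `Y = I ⊕ K` and
`Y = Y₁ ⊕ Y₂` with `K ∩ Y₁ = K ∩ Y₂ = 0`, then `K = 0`, i.e. `I = Y`.
-/

set_option autoImplicit false
universe u

namespace Groth.Agent.Lib.Helper22

theorem mem_of_orthogonal_decompositions {Y : Type u} [AddCommGroup Y] (b : Y → Y → ℤ)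
    (badd_left : ∀ x y z, b (x + y) z = b x z + b y z)
    (badd_right : ∀ x y z, b x (y + z) = b x y + b x z)
    (bsymm : ∀ x y, b x y = b y x) (bpos : ∀ y, y ≠ 0 → 0 < b y y)
    (I K Y₁ Y₂ : AddSubgroup Y)
    (h1 : ∀ y, ∃ a ∈ I, ∃ z ∈ K, y = a + z) (h2 : ∀ a ∈ I, ∀ z ∈ K, b a z = 0)
    (h3 : ∀ y, ∃ u ∈ Y₁, ∃ w ∈ Y₂, y = u + w) (h4 : ∀ u ∈ Y₁, ∀ w ∈ Y₂, b u w = 0)
    (h5 : ∀ z ∈ K, z ∈ Y₁ → z = 0) (h6 : ∀ z ∈ K, z ∈ Y₂ → z = 0) : ∀ y, y ∈ I := by
  classical
  -- indecomposable vectors lie in `I`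
  have hindec : ∀ y : Y, y ≠ 0 → (∀ u w, u + w = y → b u w = 0 → u = 0 ∨ w = 0) → y ∈ I := by
    intro y hy0 hy
    obtain ⟨a, ha, z, hz, rfl⟩ := h1 y
    rcases hy a z rfl (h2 a ha z hz) with rfl | rfl
    · exfalso
      rw [zero_add] at hy hy0
      obtain ⟨u, hu, w, hw, hzuw⟩ := h3 z
      rcases hy u w hzuw.symm (h4 u hu w hw) with rfl | rfl
      · rw [zero_add] at hzuw
        exact hy0 (h6 z hz (hzuw ▸ hw))
      · rw [add_zero] at hzuw
        exact hy0 (h5 z hz (hzuw ▸ hu))
    · rw [add_zero]; exact ha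
  -- induction on the norm
  have main : ∀ N : ℕ, ∀ y : Y, (b y y).toNat = N → y ∈ I := by
    intro N
    induction N using Nat.strong_induction_on with
    | _ N ih =>
      intro y hyN
      by_cases hy0 : y = 0
      · rw [hy0]; exact I.zero_mem
      by_cases hy : ∀ u w, u + w = y → b u w = 0 → u = 0 ∨ w = 0
      · exact hindec y hy0 hy
      · push Not at hy
        obtain ⟨u, w, huw, hb, hu0, hw0⟩ := hy
        have hu := bpos u hu0
        have hw := bpos w hw0
        have hnorm : b y y = b u u + b w w := by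
          rw [← huw, badd_left, badd_right, badd_right, bsymm w u, hb]; ring
        have hyy : 0 < b y y := bpos y hy0
        have huI : u ∈ I := ih (b u u).toNat (by omega) u rfl
        have hwI : w ∈ I := ih (b w w).toNat (by omega) w rfl
        rw [← huw]
        exact I.add_mem huI hwI
  intro y
  exact main _ y rfl

end Groth.Agent.Lib.Helper22
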