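import Mathlib.LinearAlgebra.Eigenspace.Basic
import Mathlib.RingTheory.Polynomial.Basic
import Mathlib.RingTheory.Coprime.Lemmas
import Mathlib.Algebra.Polynomial.FieldDivision

/-!
# An endomorphism killed by a product of distinct linear factors is diagonalizable
(no finiteness assumption on the module)
-/

set_option autoImplicit false
universe u v

namespace Groth.Agent.Lib.Helper22

open Polynomial

theorem ker_aeval_prod_le_iSup_eigenspace {K : Type u} {V : Type v} [Field K] [AddCommGroup V]
    [Module K V] (f : Module.End K V) (s : Finset K) :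
    LinearMap.ker (aeval f (∏ a ∈ s, (X - C a))) ≤ ⨆ μ : K, Module.End.eigenspace f μ := by
  classical
  induction s using Finset.induction_on with
  | empty =>
    intro v hv
    simp only [Finset.prod_empty, map_one, LinearMap.mem_ker, Module.End.one_apply] at hv
    rw [hv]; exact Submodule.zero_mem _
  | insert a s ha ih =>
    rw [Finset.prod_insert ha]
    have hcop : IsCoprime (X - C a) (∏ b ∈ s, (X - C b)) := by
      refine IsCoprime.prod_right fun b hb => ?_
      refine Polynomial.isCoprime_X_sub_C_of_isUnit_sub ?_
      have hab : a ≠ b := fun h => ha (h ▸ hb)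
      exact (sub_ne_zero.mpr hab).isUnit
    rw [← sup_ker_aeval_eq_ker_aeval_mul_of_coprime f hcop]
    refine sup_le ?_ ih
    refine le_trans ?_ (le_iSup _ a)
    intro v hv
    rw [Module.End.mem_eigenspace_iff]
    simp only [map_sub, aeval_X, aeval_C, LinearMap.mem_ker, LinearMap.sub_apply,
      Module.algebraMap_end_apply] at hv
    exact sub_eq_zero.mp hv

theorem iSup_eigenspace_eq_top_of_aeval_prod_eq_zero {K : Type u} {V : Type v} [Field K]
    [AddCommGroup V] [Module K V] (f : Module.End K V) (s : Finset K)
    (h : aeval f (∏ a ∈ s, (X - C a)) = 0) : ⨆ μ : K, Module.End.eigenspace f μ = ⊤ := by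
  rw [eq_top_iff]
  refine le_trans ?_ (ker_aeval_prod_le_iSup_eigenspace f s)
  rw [h]
  intro v _
  simp

end Groth.Agent.Lib.Helper22
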