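import Mathlib
import Groth.Prelude.Def_SGA4b
import Groth.Prelude.Def_EtOpen

/-!
# Subterminal sheaves of sets on the small étale site are the sheaves attached to opens
-/

set_option autoImplicit false
universe u
open CategoryTheory CategoryTheory.Limits AlgebraicGeometry Opposite

namespace Groth.Agent.Lib.Helper22.EtSubterminal

variable {X : Scheme.{u}}

lemma mem_smallEtaleTopology_iff (U : X.Etale) (R : Sieve U) :
    R ∈ X.smallEtaleTopology U ↔
      ∀ x : ↥(U.left), ∃ (V : X.Etale) (f : V ⟶ U) (y : ↥(V.left)), R.arrows f ∧ f.left.base y = x := by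
  have eX : X.smallEtaleTopology =
      (X.smallPretopology (P := EtCoh.etaleMP) (Q := EtCoh.etaleMP)).toGrothendieck :=
    Scheme.smallGrothendieckTopology_eq_toGrothendieck_smallPretopology X le_rfl
  rw [eX]
  constructor
  · intro h x
    obtain ⟨V, f, y, hf, -, hy⟩ := (Scheme.mem_toGrothendieck_smallPretopology U R).1 h x
    exact ⟨V, f, y, hf, hy⟩
  · intro h
    refine (Scheme.mem_toGrothendieck_smallPretopology U R).2 fun x => ?_
    obtain ⟨V, f, y, hf, hy⟩ := h x
    exact ⟨V, f, y, hf, inferInstance, hy⟩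

noncomputable abbrev P (U : X.Etale) : X.Etaleᵒᵖ ⥤ Type (u + 1) :=
  yoneda.obj U ⋙ uliftFunctor.{u + 1, u}

lemma isSheaf' (F : EtDesc.Sh X) : Presieve.IsSheaf X.smallEtaleTopology F.obj :=
  (isSheaf_iff_isSheaf_of_type _ _).1 F.property

lemma hom_eq_of_mono (F : EtDesc.Sh X) [Mono (terminal.from F)] {Z : EtDesc.Sh X} (g g' : Z ⟶ F) :
    g = g' :=
  (cancel_mono (terminal.from F)).1 (Subsingleton.elim _ _)

/-- Sections of a subterminal sheaf are subsingletons. -/
lemma subsingleton_of_mono (F : EtDesc.Sh X) [Mono (terminal.from F)] (W : X.Etale) :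
    Subsingleton (F.obj.obj (op W)) := by
  constructor
  intro s t
  let φ : (s : F.obj.obj (op W)) → (P W ⟶ F.obj) := fun s =>
    { app := fun W' => TypeCat.ofHom (fun a => F.obj.map a.down.op s)
      naturality := by
        intro W₁ W₂ m
        ext a
        change F.obj.map (m.unop ≫ a.down).op s = F.obj.map m (F.obj.map a.down.op s)
        rw [op_comp, F.obj.map_comp]
        rfl }
  let adj := sheafificationAdjunction X.smallEtaleTopology (Type (u + 1))
  have h := hom_eq_of_mono F ((adj.homEquiv (P W) F).symm (φ s)) ((adj.homEquiv (P W) F).symm (φ t))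
  have h2 : φ s = φ t := (adj.homEquiv (P W) F).symm.injective h
  have h3 := congrArg (fun ψ : P W ⟶ F.obj => ψ.app (op W) ⟨𝟙 W⟩) h2
  have h4 : ∀ r : F.obj.obj (op W), (φ r).app (op W) ⟨𝟙 W⟩ = r := by
    intro r
    change F.obj.map (𝟙 W).op r = r
    rw [op_id, F.obj.map_id]
    rfl
  exact (h4 s).symm.trans (h3.trans (h4 t))

/-- The open of `X` over which a sheaf of sets has sections. -/
noncomputable def supp (F : EtDesc.Sh X) : X.Opens :=
  ⟨⋃ (W : X.Etale) (_ : Nonempty (F.obj.obj (op W))), Set.range W.hom.base, by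
    refine isOpen_iUnion fun W => isOpen_iUnion fun _ => ?_
    have : Etale W.hom := W.prop
    exact W.hom.isOpenMap.isOpen_range⟩

lemma mem_supp (F : EtDesc.Sh X) (x : X) :
    x ∈ supp F ↔ ∃ (W : X.Etale) (w : W.left), Nonempty (F.obj.obj (op W)) ∧ W.hom.base w = x := by
  change x ∈ (⋃ (W : X.Etale) (_ : Nonempty (F.obj.obj (op W))), Set.range W.hom.base) ↔ _
  simp only [Set.mem_iUnion, Set.mem_range, exists_prop]
  constructor
  · rintro ⟨W, hW, w, hw⟩
    exact ⟨W, w, hW, hw⟩
  · rintro ⟨W, w, hW, hw⟩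
    exact ⟨W, hW, w, hw⟩

/-- An étale `X`-scheme over which `F` has a section maps to `supp F`. -/
lemma range_subset (F : EtDesc.Sh X) (W : X.Etale) (hW : Nonempty (F.obj.obj (op W))) :
    Set.range W.hom.base ⊆ Set.range (supp F).ι.base := by
  rw [Scheme.Opens.range_ι]
  rintro x ⟨w, rfl⟩
  exact (mem_supp F _).2 ⟨W, w, hW, rfl⟩

noncomputable def toSuppLeft (F : EtDesc.Sh X) (W : X.Etale) (hW : Nonempty (F.obj.obj (op W))) :
    W.left ⟶ (supp F).toScheme :=
  IsOpenImmersion.lift (supp F).ι W.hom (range_subset F W hW)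

lemma toSuppLeft_ι (F : EtDesc.Sh X) (W : X.Etale) (hW : Nonempty (F.obj.obj (op W))) :
    toSuppLeft F W hW ≫ (supp F).ι = W.hom :=
  IsOpenImmersion.lift_fac _ _ _

noncomputable def toSupp (F : EtDesc.Sh X) (W : X.Etale) (hW : Nonempty (F.obj.obj (op W))) :
    W ⟶ EtDesc.ofOpen (supp F) :=
  MorphismProperty.Over.homMk (toSuppLeft F W hW) (toSuppLeft_ι F W hW) trivial

/-- The sieve of étale maps to `W` over whose source `F` has a section. -/
def neSieve (F : EtDesc.Sh X) (W : X.Etale) : Sieve W where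
  arrows W' _ := Nonempty (F.obj.obj (op W'))
  downward_closed := fun ⟨s⟩ g => ⟨F.obj.map g.op s⟩

lemma neSieve_mem (F : EtDesc.Sh X) (W : X.Etale) (g : W ⟶ EtDesc.ofOpen (supp F)) :
    neSieve F W ∈ X.smallEtaleTopology W := by
  rw [mem_smallEtaleTopology_iff]
  intro w
  have hg : g.left ≫ (supp F).ι = W.hom := Over.w g.hom
  have hx : W.hom.base w ∈ supp F := by
    have h0 : (g.left ≫ (supp F).ι).base w = W.hom.base w := by rw [hg]
    have h1 : (supp F).ι.base (g.left.base w) = W.hom.base w := h0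
    rw [← h1]
    exact (g.left.base w).2
  obtain ⟨W₁, w₁, ⟨s₁⟩, hw₁⟩ := (mem_supp F _).1 hx
  have e1 : Etale W.hom := W.prop
  have e2 : Etale W₁.hom := W₁.prop
  let W' : X.Etale := Scheme.Etale.mk (pullback.fst W.hom W₁.hom ≫ W.hom)
  let f : W' ⟶ W := MorphismProperty.Over.homMk (pullback.fst W.hom W₁.hom) rfl trivial
  let f₁ : W' ⟶ W₁ := MorphismProperty.Over.homMk (pullback.snd W.hom W₁.hom)
    pullback.condition.symm trivial
  obtain ⟨z, hz1, -⟩ := Scheme.Pullback.exists_preimage_pullback (f := W.hom) (g := W₁.hom)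
    w w₁ hw₁.symm
  exact ⟨W', f, z, ⟨F.obj.map f₁.op s₁⟩, hz1⟩

lemma nonempty_of_hom (F : EtDesc.Sh X) [Mono (terminal.from F)] (W : X.Etale)
    (g : W ⟶ EtDesc.ofOpen (supp F)) : Nonempty (F.obj.obj (op W)) := by
  have hcov := neSieve_mem F W g
  have hS := isSheaf' F (neSieve F W) hcov
  let x : Presieve.FamilyOfElements F.obj (neSieve F W).arrows := fun W' f hf => hf.some
  have hx : x.Compatible := by
    intro Y₁ Y₂ Z g₁ g₂ f₁ f₂ h₁ h₂ _
    have := subsingleton_of_mono F Z
    exact Subsingleton.elim _ _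
  exact ⟨hS.amalgamate x hx⟩

lemma isSeparated (F : EtDesc.Sh X) : Presieve.IsSeparated X.smallEtaleTopology F.obj :=
  (isSheaf' F).isSeparated

/-- Sheafification of a presheaf with subsingleton values has subsingleton values. -/
lemma subsingleton_sheafify (Q : X.Etaleᵒᵖ ⥤ Type (u + 1))
    (hQ : ∀ W : X.Etale, Subsingleton (Q.obj (op W))) (W : X.Etale) :
    Subsingleton (((presheafToSheaf X.smallEtaleTopology (Type (u + 1))).obj Q).obj.obj (op W)) := by
  constructor
  intro s t
  have hls : Presheaf.IsLocallySurjective X.smallEtaleTopology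
    (toSheafify X.smallEtaleTopology Q) := inferInstance
  have hs := hls.imageSieve_mem s
  have ht := hls.imageSieve_mem t
  refine (isSeparated ((presheafToSheaf X.smallEtaleTopology (Type (u + 1))).obj Q) _
    (X.smallEtaleTopology.intersection_covering hs ht)).ext ?_
  rintro W' f ⟨⟨p, hp⟩, ⟨p', hp'⟩⟩
  have := hQ W'
  rw [← hp, ← hp', Subsingleton.elim p p']

/-- A sheaf with subsingleton values is subterminal. -/
lemma mono_of_subsingleton (F : EtDesc.Sh X) (h : ∀ W : X.Etale, Subsingleton (F.obj.obj (op W))) :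
    Mono (terminal.from F) := by
  constructor
  intro Z g g' _
  apply Sheaf.hom_ext
  ext W x
  have := h W.unop
  exact Subsingleton.elim _ _

lemma hom_ofOpen_ext (U : X.Opens) (W : X.Etale) (f g : W ⟶ EtDesc.ofOpen U) : f = g := by
  apply MorphismProperty.Over.Hom.ext
  have hf : f.left ≫ U.ι = W.hom := Over.w f.hom
  have hg : g.left ≫ U.ι = W.hom := Over.w g.hom
  exact (cancel_mono U.ι).1 (hf.trans hg.symm)

lemma subsingleton_P (U : X.Opens) (W : X.Etale) :
    Subsingleton ((P (EtDesc.ofOpen U)).obj (op W)) :=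
  ⟨fun _ _ => ULift.ext _ _ (hom_ofOpen_ext U W _ _)⟩

lemma subsingleton_repSh (U : X.Opens) (W : X.Etale) :
    Subsingleton ((EtDesc.repSh (EtDesc.ofOpen U)).obj.obj (op W)) :=
  subsingleton_sheafify _ (subsingleton_P U) W

/-- (a) The sheaf attached to an open is subterminal. -/
theorem mono_repSh (U : X.Opens) : Mono (terminal.from (EtDesc.repSh (EtDesc.ofOpen U))) :=
  mono_of_subsingleton _ (subsingleton_repSh U)

/-- The morphism of étale `X`-schemes induced by an inclusion of opens. -/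
noncomputable def ofOpenHom {U V : X.Opens} (h : U ≤ V) : EtDesc.ofOpen U ⟶ EtDesc.ofOpen V :=
  MorphismProperty.Over.homMk (X.homOfLE h) (Scheme.homOfLE_ι X h) trivial

noncomputable def repShMap {U V : X.Etale} (m : U ⟶ V) : EtDesc.repSh U ⟶ EtDesc.repSh V :=
  (presheafToSheaf X.smallEtaleTopology (Type (u + 1))).map
    (Functor.whiskerRight (yoneda.map m) uliftFunctor.{u + 1, u})

/-- (c) A subterminal sheaf is the sheaf attached to its support. -/
theorem exists_iso_repSh (F : EtDesc.Sh X) [Mono (terminal.from F)] :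
    Nonempty (F ≅ EtDesc.repSh (EtDesc.ofOpen (supp F))) := by
  have := mono_repSh (supp F)
  let a : F ⟶ EtDesc.repSh (EtDesc.ofOpen (supp F)) :=
    ⟨{ app := fun W' => TypeCat.ofHom (fun s =>
          (toSheafify X.smallEtaleTopology (P (EtDesc.ofOpen (supp F)))).app W'
            ⟨toSupp F W'.unop ⟨s⟩⟩)
       naturality := by
        intro W₁ W₂ m
        ext s
        have := subsingleton_repSh (supp F) W₂.unop
        exact Subsingleton.elim _ _ }⟩
  let ψ : P (EtDesc.ofOpen (supp F)) ⟶ F.obj :=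
    { app := fun W' => TypeCat.ofHom (fun g => (nonempty_of_hom F W'.unop g.down).some)
      naturality := by
        intro W₁ W₂ m
        ext s
        have := subsingleton_of_mono F W₂.unop
        exact Subsingleton.elim _ _ }
  let b : EtDesc.repSh (EtDesc.ofOpen (supp F)) ⟶ F :=
    ((sheafificationAdjunction X.smallEtaleTopology (Type (u + 1))).homEquiv _ F).symm ψ
  exact ⟨⟨a, b, hom_eq_of_mono F _ _, hom_eq_of_mono _ _ _⟩⟩

lemma le_of_hom {U V : X.Opens}
    (φ : EtDesc.repSh (EtDesc.ofOpen U) ⟶ EtDesc.repSh (EtDesc.ofOpen V)) : U ≤ V := by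
  intro x hx
  let s := φ.hom.app (op (EtDesc.ofOpen U))
    ((toSheafify X.smallEtaleTopology (P (EtDesc.ofOpen U))).app (op (EtDesc.ofOpen U)) ⟨𝟙 _⟩)
  have hls : Presheaf.IsLocallySurjective X.smallEtaleTopology
    (toSheafify X.smallEtaleTopology (P (EtDesc.ofOpen V))) := inferInstance
  have hs := hls.imageSieve_mem s
  rw [mem_smallEtaleTopology_iff] at hs
  let x' : ↥(EtDesc.ofOpen U).left := ⟨x, hx⟩
  obtain ⟨W, f, y, ⟨p, -⟩, hy⟩ := hs x'
  let g : W ⟶ EtDesc.ofOpen V := p.down
  have hf : f.left ≫ U.ι = W.hom := Over.w f.hom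
  have hg : g.left ≫ V.ι = W.hom := Over.w g.hom
  have h0 : (f.left ≫ U.ι).base y = (g.left ≫ V.ι).base y := by rw [hf, hg]
  have h1 : (U.ι).base (f.left.base y) = (V.ι).base (g.left.base y) := h0
  rw [hy] at h1
  have h2 : (U.ι).base x' = x := rfl
  rw [h2] at h1
  rw [h1]
  exact (g.left.base y).2

end Groth.Agent.Lib.Helper22.EtSubterminal
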