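import Groth.Agent.Lib.Helper22.ExtCompare

/-!
# Comparing `Ext` groups across a functor by dimension shifting, naturally
-/

set_option autoImplicit false
set_option linter.unusedSectionVars false

universe w w' v v' u u'

open CategoryTheory Limits Abelian

namespace Groth.Agent.Lib.Helper22.ExtCompare

section induced

variable {A B A' B' : Type*} [AddCommGroup A] [AddCommGroup B] [AddCommGroup A'] [AddCommGroup B']

/-- An isomorphism compatible with the kernels of two surjections induces an isomorphism of the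
targets. -/
lemma exists_induced (δ : A →+ B) (δ' : A' →+ B') (hδ : Function.Surjective δ)
    (hδ' : Function.Surjective δ') (e : A ≃+ A') (hker : ∀ a, δ a = 0 ↔ δ' (e a) = 0) :
    ∃ ē : B ≃+ B', ∀ a, ē (δ a) = δ' (e a) := by
  have key : ∀ a a' : A, δ a = δ a' → δ' (e a) = δ' (e a') := by
    intro a a' h
    have h0 : δ (a - a') = 0 := by rw [map_sub, h, sub_self]
    have h1 := (hker _).1 h0
    rw [map_sub, map_sub, sub_eq_zero] at h1
    exact h1
  have key' : ∀ a a' : A', δ' a = δ' a' → δ (e.symm a) = δ (e.symm a') := by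
    intro a a' h
    have h0 : δ' (e (e.symm (a - a'))) = 0 := by
      rw [AddEquiv.apply_symm_apply, map_sub, h, sub_self]
    have h1 := (hker _).2 h0
    rw [map_sub, map_sub, sub_eq_zero] at h1
    exact h1
  let f : B → B' := fun b => δ' (e (hδ b).choose)
  have hf : ∀ a, f (δ a) = δ' (e a) := fun a => key _ _ (hδ (δ a)).choose_spec
  let g : B' → B := fun b => δ (e.symm (hδ' b).choose)
  have hg : ∀ a, g (δ' a) = δ (e.symm a) := fun a => key' _ _ (hδ' (δ' a)).choose_spec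
  refine ⟨{ toFun := f, invFun := g, left_inv := ?_, right_inv := ?_, map_add' := ?_ }, hf⟩
  · intro b
    obtain ⟨a, rfl⟩ := hδ b
    rw [hf, hg, AddEquiv.symm_apply_apply]
  · intro b
    obtain ⟨a, rfl⟩ := hδ' b
    rw [hg, hf, AddEquiv.apply_symm_apply]
  · intro b b'
    obtain ⟨a, rfl⟩ := hδ b
    obtain ⟨a', rfl⟩ := hδ b'
    rw [← map_add, hf, hf, hf, map_add, map_add]

end induced

section general

variable {𝒞 : Type u} [Category.{v} 𝒞] [Abelian 𝒞] [HasExt.{w} 𝒞]

/-- The connecting map. -/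
noncomputable def dl (P : 𝒞) (n : ℕ) {S : ShortComplex 𝒞} (hS : S.ShortExact) :
    Ext P S.X₃ n →+ Ext P S.X₁ (n + 1) :=
  hS.extClass.postcomp P rfl

lemma dl_apply (P : 𝒞) (n : ℕ) {S : ShortComplex 𝒞} (hS : S.ShortExact) (x : Ext P S.X₃ n) :
    dl P n hS x = x.comp hS.extClass rfl := rfl

lemma dl_natural (P : 𝒞) (n : ℕ) {S S' : ShortComplex 𝒞} (hS : S.ShortExact)
    (hS' : S'.ShortExact) (φ : S ⟶ S') (x : Ext P S.X₃ n) :
    (dl P n hS x).comp (Ext.mk₀ φ.τ₁) (add_zero (n + 1)) =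
      dl P n hS' (x.comp (Ext.mk₀ φ.τ₃) (add_zero n)) := by
  rw [dl_apply, dl_apply,
    Ext.comp_assoc x hS.extClass (Ext.mk₀ φ.τ₁) rfl (add_zero 1) (by omega),
    ShortComplex.ShortExact.extClass_naturality hS hS' φ,
    Ext.comp_assoc x (Ext.mk₀ φ.τ₃) hS'.extClass (add_zero n) (zero_add 1) (by omega)]

lemma dl_surjective (P : 𝒞) (n : ℕ) {S : ShortComplex 𝒞} (hS : S.ShortExact)
    (h : ∀ x : Ext P S.X₂ (n + 1), x = 0) : Function.Surjective (dl P n hS) := by
  intro x
  obtain ⟨y, hy⟩ := Ext.covariant_sequence_exact₁ P hS x (h _) rfl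
  exact ⟨y, hy⟩

lemma dl_eq_zero_iff (P : 𝒞) (n : ℕ) {S : ShortComplex 𝒞} (hS : S.ShortExact)
    (x : Ext P S.X₃ n) :
    dl P n hS x = 0 ↔ ∃ y : Ext P S.X₂ n, y.comp (Ext.mk₀ S.g) (add_zero n) = x := by
  constructor
  · intro hx
    exact Ext.covariant_sequence_exact₃ P hS x rfl hx
  · rintro ⟨y, rfl⟩
    rw [dl_apply, Ext.comp_assoc_of_second_deg_zero, hS.comp_extClass, Ext.comp_zero]

variable [EnoughInjectives 𝒞]

/-- A morphism `F ⟶ F'` extends to the chosen injective presentations. -/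
noncomputable def injSCMap {F F' : 𝒞} (g : F ⟶ F') : injSC F ⟶ injSC F' where
  τ₁ := g
  τ₂ := Injective.factorThru (g ≫ Injective.ι F') (Injective.ι F)
  τ₃ := cokernel.map _ _ g (Injective.factorThru (g ≫ Injective.ι F') (Injective.ι F))
    (Injective.comp_factorThru _ _)
  comm₁₂ := (Injective.comp_factorThru _ _).symm
  comm₂₃ := (cokernel.π_desc _ _ _).symm

lemma injSCMap_τ₁ {F F' : 𝒞} (g : F ⟶ F') : (injSCMap g).τ₁ = g := rfl

end general

section compare

variable {𝒜 : Type u} [Category.{v} 𝒜] [Abelian 𝒜] [HasExt.{w} 𝒜] [EnoughInjectives 𝒜]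
  {ℬ : Type u'} [Category.{v'} ℬ] [Abelian ℬ] [HasExt.{w'} ℬ]
  (Φ : 𝒜 ⥤ ℬ) (P : 𝒜) (P' : ℬ) (good : 𝒜 → Prop)

/-- A natural family of identifications `Ext^n(P, F) ≃ Ext^n(P', Φ F)` on good objects. -/
structure NatFam (n : ℕ) where
  /-- the isomorphisms -/
  e : ∀ F : 𝒜, good F → (Ext P F n ≃+ Ext P' (Φ.obj F) n)
  nat : ∀ {F F' : 𝒜} (hF : good F) (hF' : good F') (g : F ⟶ F') (x : Ext P F n),
    e F' hF' (x.comp (Ext.mk₀ g) (add_zero n)) =
      (e F hF x).comp (Ext.mk₀ (Φ.map g)) (add_zero n)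

variable {Φ P P' good}

/-- The inductive step. -/
theorem NatFam.step [Φ.PreservesZeroMorphisms]
    (h1 : ∀ F, good F → ((injSC F).map Φ).ShortExact)
    (h2 : ∀ F, good F → good (injSC F).X₃)
    (h3 : ∀ F, good F → ∀ (n : ℕ) (x : Ext P' (Φ.obj (injSC F).X₂) (n + 1)), x = 0)
    (n : ℕ) (E : NatFam Φ P P' good n)
    (hker : ∀ (F : 𝒜) (hF : good F) (y : Ext P (injSC F).X₃ n),
      dl P n (injSC_shortExact F) y = 0 ↔
        dl P' n (h1 F hF) (E.e (injSC F).X₃ (h2 F hF) y) = 0) :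
    Nonempty (NatFam Φ P P' good (n + 1)) := by
  have hinj : ∀ (F : 𝒜) (x : Ext P (injSC F).X₂ (n + 1)), x = 0 :=
    fun F x => Ext.eq_zero_of_injective x
  have hex : ∀ (F : 𝒜) (hF : good F), ∃ ē : Ext P F (n + 1) ≃+ Ext P' (Φ.obj F) (n + 1),
      ∀ a : Ext P (injSC F).X₃ n, ē (dl P n (injSC_shortExact F) a) =
        dl P' n (h1 F hF) (E.e (injSC F).X₃ (h2 F hF) a) := fun (F : 𝒜) (hF : good F) =>
    exists_induced (dl P n (injSC_shortExact F)) (dl P' n (h1 F hF))
      (dl_surjective P n _ (hinj F)) (dl_surjective P' n _ (h3 F hF n))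
      (E.e (injSC F).X₃ (h2 F hF)) (hker F hF)
  choose ē hē using hex
  refine ⟨⟨ē, ?_⟩⟩
  intro F F' hF hF' g x
  obtain ⟨y, rfl⟩ := dl_surjective P n (injSC_shortExact F) (hinj F) x
  have e1 := dl_natural P n (injSC_shortExact F) (injSC_shortExact F') (injSCMap g) y
  rw [injSCMap_τ₁] at e1
  rw [e1, hē, E.nat (h2 F hF) (h2 F' hF') (injSCMap g).τ₃ y, hē]
  have e2 := dl_natural P' n (h1 F hF) (h1 F' hF') (Φ.mapShortComplex.map (injSCMap g))
    (E.e (injSC F).X₃ (h2 F hF) y)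
  exact e2.symm

/-- Natural version of `nonempty_ext_addEquiv`. -/
theorem nonempty_natFam [Φ.PreservesZeroMorphisms] (d : Deg0Iso Φ P P')
    (h1 : ∀ F, good F → ((injSC F).map Φ).ShortExact)
    (h2 : ∀ F, good F → good (injSC F).X₃)
    (h3 : ∀ F, good F → ∀ (n : ℕ) (x : Ext P' (Φ.obj (injSC F).X₂) (n + 1)), x = 0) :
    ∀ n : ℕ, Nonempty (NatFam Φ P P' good n) := by
  have h0 : Nonempty (NatFam Φ P P' good 0) :=
    ⟨⟨fun F _ => d.e F, fun _ _ g x => d.nat g x⟩⟩
  have hsucc : ∀ n : ℕ, Nonempty (NatFam Φ P P' good (n + 1)) := by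
    intro n
    induction n with
    | zero =>
      refine NatFam.step h1 h2 h3 0 ⟨fun F _ => d.e F, fun _ _ g x => d.nat g x⟩ ?_
      intro F hF y
      rw [dl_eq_zero_iff, dl_eq_zero_iff]
      constructor
      · rintro ⟨z, rfl⟩
        exact ⟨d.e _ z, (d.nat (injSC F).g z).symm⟩
      · rintro ⟨z', hz'⟩
        obtain ⟨z, rfl⟩ := (d.e (injSC F).X₂).surjective z'
        refine ⟨z, ?_⟩
        apply (d.e (injSC F).X₃).injective
        exact (d.nat (injSC F).g z).trans hz'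
    | succ n ih =>
      obtain ⟨E⟩ := ih
      refine NatFam.step h1 h2 h3 (n + 1) E ?_
      intro F hF y
      rw [dl_eq_zero_iff, dl_eq_zero_iff]
      constructor
      · rintro ⟨z, rfl⟩
        have hz : z = 0 := Ext.eq_zero_of_injective z
        refine ⟨0, ?_⟩
        have h0 : z.comp (Ext.mk₀ (injSC F).g) (add_zero (n + 1)) = 0 := by
          rw [hz, Ext.zero_comp]
        rw [h0, map_zero]
        exact Ext.zero_comp _ _ _ _ _
      · rintro ⟨z, hz⟩
        have hz0 : z = 0 := h3 F hF n z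
        refine ⟨0, ?_⟩
        have h4 : E.e (injSC F).X₃ (h2 F hF) y = 0 := by
          rw [← hz, hz0]
          exact Ext.zero_comp _ _ _ _ _
        have hy : y = 0 := (E.e (injSC F).X₃ (h2 F hF)).map_eq_zero_iff.1 h4
        rw [hy]
        exact Ext.zero_comp _ _ _ _ _
  intro n
  cases n with
  | zero => exact h0
  | succ n => exact hsucc n

end compare

end Groth.Agent.Lib.Helper22.ExtCompare
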