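import Mathlib.AlgebraicGeometry.Morphisms.Affine
import Mathlib.AlgebraicGeometry.Morphisms.QuasiSeparated

/-!
# The induction principle for quasi-compact quasi-separated schemes
-/

set_option autoImplicit false
universe u
open AlgebraicGeometry CategoryTheory CategoryTheory.Limits TopologicalSpace

namespace Groth.Agent.Lib.Helper22.Qcqs

variable {X : Scheme.{u}}

theorem isAffineOpen_inf_of_le {W V₁ V₂ : X.Opens} (hW : IsAffineOpen W)
    (h₁ : V₁ ≤ W) (h₂ : V₂ ≤ W) (hV₁ : IsAffineOpen V₁) (hV₂ : IsAffineOpen V₂) :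
    IsAffineOpen (V₁ ⊓ V₂) := by
  have : IsAffineHom (pullback.diagonal (𝟙 X)) := inferInstance
  exact isAffineHom_diagonal_iff.mp this W hW V₁ h₁ V₂ h₂ hV₁ hV₂

/-- The union of a list of opens. -/
abbrev lsup (l : List X.Opens) : X.Opens := l.foldr (· ⊔ ·) ⊥

lemma lsup_cons (V : X.Opens) (l : List X.Opens) : lsup (V :: l) = V ⊔ lsup l := rfl

lemma le_lsup {l : List X.Opens} {V : X.Opens} (hV : V ∈ l) : V ≤ lsup l := by
  induction l with
  | nil => simp at hV
  | cons W l ih =>
    rw [lsup_cons]
    rw [List.mem_cons] at hV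
    rcases hV with rfl | hV
    · exact le_sup_left
    · exact (ih hV).trans le_sup_right

lemma lsup_le {l : List X.Opens} {T : X.Opens} (h : ∀ V ∈ l, V ≤ T) : lsup l ≤ T := by
  induction l with
  | nil => exact bot_le
  | cons W l ih =>
    rw [lsup_cons]
    exact sup_le (h W List.mem_cons_self) (ih fun V hV => h V (List.mem_cons_of_mem _ hV))

lemma inf_lsup (V : X.Opens) (l : List X.Opens) : V ⊓ lsup l = lsup (l.map (V ⊓ ·)) := by
  induction l with
  | nil => simp [lsup]
  | cons W l ih => rw [List.map_cons, lsup_cons, lsup_cons, inf_sup_left, ih]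

lemma isCompact_lsup {l : List X.Opens} (h : ∀ V ∈ l, IsAffineOpen V) :
    IsCompact (lsup l : Set X) := by
  induction l with
  | nil => simp [lsup]
  | cons W l ih =>
    rw [lsup_cons, Opens.coe_sup]
    exact (h W List.mem_cons_self).isCompact.union
      (ih fun V hV => h V (List.mem_cons_of_mem _ hV))

/-- A compact open is the union of a finite list of affine opens. -/
lemma exists_list_of_isCompact (T : X.Opens) (hT : IsCompact (T : Set X)) :
    ∃ l : List X.Opens, (∀ V ∈ l, IsAffineOpen V) ∧ lsup l = T := by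
  obtain ⟨s, hs, hT'⟩ := isCompact_iff_finite_and_eq_biUnion_affineOpens.mp hT
  refine ⟨List.map (fun i : X.affineOpens => i.1) hs.toFinset.toList, ?_, ?_⟩
  · intro V hV
    rw [List.mem_map] at hV
    obtain ⟨i, _, rfl⟩ := hV
    exact i.2
  · rw [hT']
    apply le_antisymm
    · apply lsup_le
      intro V hV
      rw [List.mem_map] at hV
      obtain ⟨i, hi, rfl⟩ := hV
      rw [Finset.mem_toList, Set.Finite.mem_toFinset] at hi
      exact le_iSup₂ (f := fun (i : X.affineOpens) (_ : i ∈ s) => (i : X.Opens)) i hi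
    · apply iSup₂_le
      intro i hi
      apply le_lsup
      rw [List.mem_map]
      exact ⟨i, by rw [Finset.mem_toList, Set.Finite.mem_toFinset]; exact hi, rfl⟩

section induction

variable (P : X.Opens → Prop) (h₁ : ∀ U : X.Opens, IsAffineOpen U → P U)
    (h₂ : ∀ U V : X.Opens, IsCompact (U : Set X) → IsAffineOpen V → P U → P V → P (U ⊓ V) →
      P (U ⊔ V))

include h₁ h₂ in
/-- Unions of affine opens inside a fixed affine open. -/
lemma P_lsup_of_le_affine (W : X.Opens) (hW : IsAffineOpen W) :
    ∀ (t : ℕ) (l : List X.Opens), l.length = t → (∀ V ∈ l, IsAffineOpen V ∧ V ≤ W) →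
      P (lsup l) := by
  intro t
  induction t with
  | zero =>
    intro l hl _
    rw [List.length_eq_zero_iff] at hl
    subst hl
    exact h₁ _ (isAffineOpen_bot X)
  | succ t ih =>
    intro l hl hA
    obtain ⟨V, l', rfl⟩ := List.exists_cons_of_length_eq_add_one hl
    have hl' : l'.length = t := by simpa using hl
    have hV := hA V List.mem_cons_self
    have hA' : ∀ V' ∈ l', IsAffineOpen V' ∧ V' ≤ W := fun V' h => hA V' (List.mem_cons_of_mem _ h)
    rw [lsup_cons, sup_comm]
    refine h₂ _ _ (isCompact_lsup fun V' h => (hA' V' h).1) hV.1 (ih l' hl' hA') (h₁ V hV.1) ?_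
    rw [inf_comm, inf_lsup]
    refine ih _ (by simpa using hl') ?_
    intro V' hV'
    rw [List.mem_map] at hV'
    obtain ⟨V'', hV'', rfl⟩ := hV'
    exact ⟨isAffineOpen_inf_of_le hW hV.2 (hA' V'' hV'').2 hV.1 (hA' V'' hV'').1,
      inf_le_left.trans hV.2⟩

include h₁ h₂ in
lemma P_lsup [QuasiSeparatedSpace X] :
    ∀ (t : ℕ) (l : List X.Opens), l.length = t → (∀ V ∈ l, IsAffineOpen V) → P (lsup l) := by
  intro t
  induction t with
  | zero =>
    intro l hl _
    rw [List.length_eq_zero_iff] at hl
    subst hl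
    exact h₁ _ (isAffineOpen_bot X)
  | succ t ih =>
    intro l hl hA
    obtain ⟨V, l', rfl⟩ := List.exists_cons_of_length_eq_add_one hl
    have hl' : l'.length = t := by simpa using hl
    have hV := hA V List.mem_cons_self
    have hA' : ∀ V' ∈ l', IsAffineOpen V' := fun V' h => hA V' (List.mem_cons_of_mem _ h)
    rw [lsup_cons, sup_comm]
    have hc : IsCompact (lsup l' : Set X) := isCompact_lsup hA'
    refine h₂ _ _ hc hV (ih l' hl' hA') (h₁ V hV) ?_
    -- `lsup l' ⊓ V` is a compact open inside the affine `V`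
    have hc' : IsCompact ((lsup l' ⊓ V : X.Opens) : Set X) := by
      rw [Opens.coe_inf]
      exact QuasiSeparatedSpace.inter_isCompact _ _ (lsup l').isOpen hc V.isOpen hV.isCompact
    obtain ⟨l'', hl'', hsup⟩ := exists_list_of_isCompact _ hc'
    rw [← hsup]
    refine P_lsup_of_le_affine P h₁ h₂ V hV _ l'' rfl ?_
    intro V' hV'
    refine ⟨hl'' V' hV', ?_⟩
    exact ((le_lsup hV').trans hsup.le).trans inf_le_right

include h₁ h₂ in
/-- **Induction principle** for quasi-compact opens of a quasi-separated scheme. -/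
theorem qcqs_induction [QuasiSeparatedSpace X] (U : X.Opens) (hU : IsCompact (U : Set X)) :
    P U := by
  obtain ⟨l, hl, rfl⟩ := exists_list_of_isCompact U hU
  exact P_lsup P h₁ h₂ _ l rfl hl

end induction

end Groth.Agent.Lib.Helper22.Qcqs
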