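import Groth.Agent.Lib.Helper22.PLinear

set_option autoImplicit false
set_option linter.unusedSectionVars false

open Polynomial

namespace Groth.Agent.Lib.Helper22.PLinear

variable {k : Type*} [Field k] (p : ℕ) [hp : Fact p.Prime] [CharP k p]
  {V : Type*} [AddCommGroup V] [Module k V]
  (F : V →+ V) (hF : ∀ (c : k) (v : V), F (c • v) = c ^ p • F v)

/-- The elements fixed by the Frobenius of `k`. -/
def Sp : Set k := {c | c ^ p = c}

omit [CharP k p] in
lemma finite_Sp : (Sp (k := k) p).Finite ∧ Nat.card (Sp (k := k) p) ≤ p := by
  classical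
  have h1 : (X ^ p - X : k[X]) ≠ 0 := FiniteField.X_pow_card_sub_X_ne_zero k hp.out.one_lt
  have hsub : Sp (k := k) p ⊆ ((X ^ p - X : k[X]).roots.toFinset : Set k) := by
    intro c hc
    rw [Finset.mem_coe, Multiset.mem_toFinset, mem_roots h1, IsRoot.def, eval_sub, eval_pow,
      eval_X, sub_eq_zero]
    exact hc
  have hfin : (Sp (k := k) p).Finite := (Finset.finite_toSet _).subset hsub
  refine ⟨hfin, ?_⟩
  have h2 : Nat.card (Sp (k := k) p) ≤ ((X ^ p - X : k[X]).roots.toFinset).card := by
    rw [Nat.card_coe_set_eq]
    calc (Sp (k := k) p).ncard ≤ ((X ^ p - X : k[X]).roots.toFinset : Set k).ncard :=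
          Set.ncard_le_ncard hsub (Finset.finite_toSet _)
      _ = _ := Set.ncard_coe_finset _
  refine h2.trans ((Multiset.toFinset_card_le _).trans ?_)
  refine (card_roots' _).trans ?_
  rw [FiniteField.X_pow_card_sub_X_natDegree_eq k hp.out.one_lt]

include hF in
omit hp [CharP k p] in
lemma F_linearCombination (b : Set V) (l : b →₀ k) :
    F (Finsupp.linearCombination k (Subtype.val : b → V) l) =
      ∑ i ∈ l.support, (l i) ^ p • F (i : V) := by
  rw [Finsupp.linearCombination_apply, Finsupp.sum, map_sum]
  exact Finset.sum_congr rfl fun i _ => hF _ _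

include hF in
/-- The fixed points of a `p`-linear map on a finite-dimensional space are finite, of cardinality
at most `p ^ dim`. -/
theorem card_fixed_le [Module.Finite k V] :
    Finite {v : V | F v = v} ∧ Nat.card {v : V | F v = v} ≤ p ^ Module.finrank k V := by
  classical
  obtain ⟨b, hbW, hspan, hli⟩ := exists_linearIndependent k {v : V | F v = v}
  have hbfin : Finite b := hli.finite
  have hbcard : Nat.card b ≤ Module.finrank k V := by
    have := Fintype.ofFinite b
    rw [Nat.card_eq_fintype_card]
    exact hli.fintype_card_le_finrank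
  obtain ⟨hSfin, hScard⟩ := finite_Sp (k := k) p
  have hSfin' : Finite (Sp (k := k) p) := hSfin
  have hmem : ∀ w : {v : V | F v = v}, (w : V) ∈ Submodule.span k (Set.range (Subtype.val : b → V)) := by
    intro w
    rw [Subtype.range_coe, hspan]
    exact Submodule.subset_span w.2
  -- coordinates
  let co : {v : V | F v = v} → (b →₀ k) := fun w => hli.repr ⟨w, hmem w⟩
  have hco : ∀ w, Finsupp.linearCombination k (Subtype.val : b → V) (co w) = w := fun w =>
    hli.linearCombination_repr ⟨w, hmem w⟩
  have hpow : ∀ w (i : b), (co w i) ^ p = co w i := by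
    intro w i
    let l' : b →₀ k := (co w).mapRange (· ^ p) (zero_pow hp.out.ne_zero)
    have h1 : Finsupp.linearCombination k (Subtype.val : b → V) l' =
        Finsupp.linearCombination k (Subtype.val : b → V) (co w) := by
      rw [hco w]
      have h2 := F_linearCombination p F hF b (co w)
      rw [hco w, w.2] at h2
      rw [h2, Finsupp.linearCombination_apply, Finsupp.sum]
      have hsupp : l'.support = (co w).support := by
        ext i
        simp only [Finsupp.mem_support_iff, l', Finsupp.mapRange_apply, ne_eq,
          pow_eq_zero_iff hp.out.ne_zero]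
      rw [hsupp]
      refine Finset.sum_congr rfl fun i _ => ?_
      rw [Finsupp.mapRange_apply, hbW i.2]
    have h3 : l' = co w := hli h1
    have := DFunLike.congr_fun h3 i
    rwa [Finsupp.mapRange_apply] at this
  let T : {v : V | F v = v} → (b → Sp (k := k) p) := fun w i => ⟨co w i, hpow w i⟩
  have hT : Function.Injective T := by
    intro w w' h
    apply Subtype.ext
    rw [← hco w, ← hco w']
    congr 1
    ext i
    exact congrArg Subtype.val (congrFun h i)
  have hfinT : Finite (b → Sp (k := k) p) := inferInstance
  refine ⟨Finite.of_injective T hT, ?_⟩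
  calc Nat.card {v : V | F v = v} ≤ Nat.card (b → Sp (k := k) p) :=
        Nat.card_le_card_of_injective T hT
    _ = Nat.card (Sp (k := k) p) ^ Nat.card b := Nat.card_fun
    _ ≤ p ^ Nat.card b := Nat.pow_le_pow_left hScard _
    _ ≤ p ^ Module.finrank k V := Nat.pow_le_pow_right hp.out.pos hbcard

end Groth.Agent.Lib.Helper22.PLinear
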