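import Mathlib

/-!
# `p`-linear algebra over a separably closed field

For a finite-dimensional vector space `V` over a separably closed field `k` of characteristic `p`
and an additive map `F : V → V` with `F (c • v) = c ^ p • F v`, the map `F - 1` is surjective.
-/

set_option autoImplicit false
set_option linter.unusedSectionVars false

open Polynomial

namespace Groth.Agent.Lib.Helper22.PLinear

variable {k : Type*} [Field k] (p : ℕ) [hp : Fact p.Prime] [CharP k p]
  {V : Type*} [AddCommGroup V] [Module k V]
  (F : V →+ V) (hF : ∀ (c : k) (v : V), F (c • v) = c ^ p • F v)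

section relation

variable [Module.Finite k V]

omit hp [CharP k p] in
/-- Some iterate of `F` applied to `w` is a combination of the previous ones. -/
lemma exists_relation (w : V) :
    ∃ (m : ℕ) (c : ℕ → k), F^[m] w = ∑ i ∈ Finset.range m, c i • F^[i] w := by
  by_contra hcon
  push Not at hcon
  have hnot : ∀ m : ℕ, F^[m] w ∉ Submodule.span k (Set.range fun i : Fin m => F^[(i : ℕ)] w) := by
    intro m hm
    obtain ⟨c, hc⟩ := (Submodule.mem_span_range_iff_exists_fun k).1 hm
    refine hcon m (fun i => if h : i < m then c ⟨i, h⟩ else 0) ?_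
    rw [← hc, Finset.sum_range]
    refine Finset.sum_congr rfl fun i _ => ?_
    rw [dif_pos i.2]
  have hli : ∀ m : ℕ, LinearIndependent k (fun i : Fin m => F^[(i : ℕ)] w) := by
    intro m
    induction m with
    | zero => exact linearIndependent_empty_type
    | succ m ih =>
      rw [linearIndependent_finSucc']
      exact ⟨ih, hnot m⟩
  have h1 := (hli (Module.finrank k V + 1)).fintype_card_le_finrank
  rw [Fintype.card_fin] at h1
  omega

end relation

/-- The polynomials computing the coefficients of a solution. -/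
noncomputable def Xp (c : ℕ → k) : ℕ → k[X]
  | 0 => 1 + C (c 0) * X ^ p
  | i + 1 => (Xp c i) ^ p + C (c (i + 1)) * X ^ p

omit hp in
lemma derivative_X_pow_p : derivative ((X : k[X]) ^ p) = 0 := by
  rw [derivative_X_pow, CharP.cast_eq_zero k p, C_0, zero_mul]

omit hp in
lemma derivative_Xp (c : ℕ → k) (i : ℕ) : derivative (Xp p c i) = 0 := by
  cases i with
  | zero =>
    unfold Xp
    rw [derivative_add, derivative_one, derivative_C_mul, derivative_X_pow_p, mul_zero, add_zero]
  | succ i =>
    unfold Xp
    rw [derivative_add, derivative_C_mul, derivative_X_pow_p, mul_zero, add_zero, derivative_pow,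
      CharP.cast_eq_zero k p, C_0, zero_mul, zero_mul]

omit hp in
lemma exists_root_Xp [IsSepClosed k] (c : ℕ → k) (i : ℕ) : ∃ t : k, (Xp p c i).eval t = t := by
  have hd : derivative (Xp p c i - X) = -1 := by
    rw [derivative_sub, derivative_Xp, derivative_X, zero_sub]
  have hsep : (Xp p c i - X).Separable := by
    rw [separable_def, hd]
    exact isCoprime_one_right.neg_right
  have hdeg : (Xp p c i - X).degree ≠ 0 := by
    intro h0
    have h1 := eq_C_of_degree_eq_zero h0
    rw [h1, derivative_C] at hd
    have h2 : (1 : k[X]) = 0 := by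
      have := congrArg Neg.neg hd
      rw [neg_neg, neg_zero] at this
      exact this.symm
    exact one_ne_zero h2
  obtain ⟨t, ht⟩ := IsSepClosed.exists_root _ hdeg hsep
  refine ⟨t, ?_⟩
  have := ht
  rw [IsRoot.def, eval_sub, eval_X, sub_eq_zero] at this
  exact this

omit hp [CharP k p] in
lemma eval_Xp_zero (c : ℕ → k) (t : k) : (Xp p c 0).eval t = 1 + c 0 * t ^ p := by
  unfold Xp
  simp

omit hp [CharP k p] in
lemma eval_Xp_succ (c : ℕ → k) (t : k) (i : ℕ) :
    (Xp p c (i + 1)).eval t = ((Xp p c i).eval t) ^ p + c (i + 1) * t ^ p := by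
  conv_lhs => unfold Xp
  simp

include hF in
omit hp [CharP k p] in
lemma F_sum_smul (m : ℕ) (x : ℕ → k) (a : ℕ → V) :
    F (∑ i ∈ Finset.range m, x i • a i) = ∑ i ∈ Finset.range m, (x i) ^ p • F (a i) := by
  rw [map_sum]
  exact Finset.sum_congr rfl fun i _ => hF _ _

include hF in
/-- `1 - F` is surjective. -/
theorem exists_sub_eq [IsSepClosed k] [Module.Finite k V] (w : V) : ∃ v : V, v - F v = w := by
  obtain ⟨m, c, hrel⟩ := exists_relation (k := k) F w
  cases m with
  | zero =>
    refine ⟨0, ?_⟩
    rw [Finset.range_zero, Finset.sum_empty] at hrel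
    have : w = 0 := hrel
    rw [this, map_zero, sub_zero]
  | succ m =>
    obtain ⟨t, ht⟩ := exists_root_Xp p c m
    let x : ℕ → k := fun i => (Xp p c i).eval t
    have hx0 : x 0 = 1 + c 0 * t ^ p := eval_Xp_zero p c t
    have hxs : ∀ i, x (i + 1) = (x i) ^ p + c (i + 1) * t ^ p := eval_Xp_succ p c t
    have hxm : x m = t := ht
    let a : ℕ → V := fun i => F^[i] w
    have ha : ∀ i, F (a i) = a (i + 1) := fun i => (Function.iterate_succ_apply' F i w).symm
    refine ⟨∑ i ∈ Finset.range (m + 1), x i • a i, ?_⟩
    rw [F_sum_smul p F hF]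
    have h1 : ∑ i ∈ Finset.range (m + 1), (x i) ^ p • F (a i) =
        ∑ i ∈ Finset.range m, (x i) ^ p • a (i + 1) + t ^ p • a (m + 1) := by
      rw [Finset.sum_range_succ, ha m, hxm]
      congr 1
      exact Finset.sum_congr rfl fun i _ => by rw [ha i]
    have h2 : ∑ i ∈ Finset.range (m + 1), x i • a i =
        ∑ i ∈ Finset.range m, x (i + 1) • a (i + 1) + x 0 • a 0 :=
      Finset.sum_range_succ' _ _
    have h3 : a (m + 1) = ∑ i ∈ Finset.range m, c (i + 1) • a (i + 1) + c 0 • a 0 := by
      have : a (m + 1) = ∑ i ∈ Finset.range (m + 1), c i • a i := hrel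
      rw [this]
      exact Finset.sum_range_succ' _ _
    rw [h1, h2, h3, smul_add, Finset.smul_sum, hx0]
    have h4 : ∑ i ∈ Finset.range m, x (i + 1) • a (i + 1) =
        ∑ i ∈ Finset.range m, (x i) ^ p • a (i + 1) +
          ∑ i ∈ Finset.range m, t ^ p • c (i + 1) • a (i + 1) := by
      rw [← Finset.sum_add_distrib]
      refine Finset.sum_congr rfl fun i _ => ?_
      rw [hxs i, add_smul, mul_comm, mul_smul]
    rw [h4, add_smul, one_smul, mul_comm, mul_smul]
    show _ = a 0
    abel

include hF in
/-- `F - 1` is surjective. -/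
theorem exists_F_sub_eq [IsSepClosed k] [Module.Finite k V] (w : V) : ∃ v : V, F v - v = w := by
  obtain ⟨u, hu⟩ := exists_sub_eq p F hF w
  refine ⟨-u, ?_⟩
  rw [map_neg, ← hu]
  abel

end Groth.Agent.Lib.Helper22.PLinear
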