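import Mathlib.Algebra.DirectSum.Decomposition
import Mathlib.Algebra.Module.Submodule.Lattice
import Mathlib.LinearAlgebra.Span.Defs
import Mathlib.Algebra.DirectSum.Module

/-!
# Homogeneous pieces of a sum of homogeneous submodules
-/

set_option autoImplicit false
universe u v w

namespace Groth.Agent.Lib.Helper22

/-- If `T i ≤ ℳ i` for a decomposition `ℳ`, then an element of `⨆ i, T i` lying in `ℳ j`
already lies in `T j`. -/
theorem mem_piece_of_mem_iSup {ι : Type w} [DecidableEq ι] {R : Type u} {M : Type v}
    [Semiring R] [AddCommMonoid M] [Module R M]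
    (ℳ : ι → Submodule R M) [DirectSum.Decomposition ℳ] (T : ι → Submodule R M)
    (hT : ∀ i, T i ≤ ℳ i) {x : M} (hx : x ∈ ⨆ i, T i) {j : ι} (hxj : x ∈ ℳ j) : x ∈ T j := by
  have hdec : ∀ j : ι, (DirectSum.decompose ℳ x j : M) ∈ T j := by
    refine Submodule.iSup_induction T (motive := fun x => ∀ j : ι,
      (DirectSum.decompose ℳ x j : M) ∈ T j) hx ?_ ?_ ?_
    · intro m y hy j
      by_cases hjm : m = j
      · subst hjm
        rw [DirectSum.decompose_of_mem_same ℳ (hT m hy)]
        exact hy
      · rw [DirectSum.decompose_of_mem_ne ℳ (hT m hy) hjm]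
        exact Submodule.zero_mem _
    · intro j
      rw [DirectSum.decompose_zero]
      simp
    · intro y z hy hz j
      rw [DirectSum.decompose_add, DirectSum.add_apply, Submodule.coe_add]
      exact Submodule.add_mem _ (hy j) (hz j)
  have := hdec j
  rwa [DirectSum.decompose_of_mem_same ℳ hxj] at this

end Groth.Agent.Lib.Helper22
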