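import Mathlib.RingTheory.Flat.FaithfullyFlat.Algebra
import Mathlib.RingTheory.Ideal.GoingUp
import Mathlib.LinearAlgebra.TensorProduct.Tower

/-!
# Faithfully flat ring maps are universally injective; integral flat injective maps are
faithfully flat
-/

set_option autoImplicit false
universe u v w

namespace Groth.Agent.Lib.Helper22

open TensorProduct

/-- A faithfully flat algebra map `B → C` stays injective after tensoring (over any base ring `R`
under `B`) with any `R`-module. -/
theorem lTensor_injective_of_faithfullyFlat (R B C M : Type*) [CommRing R] [CommRing B]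
    [CommRing C] [Algebra R B] [Algebra R C] [Algebra B C] [IsScalarTower R B C]
    [Module.FaithfullyFlat B C] [AddCommGroup M] [Module R M] :
    Function.Injective ((IsScalarTower.toAlgHom R B C).toLinearMap.lTensor M) := by
  rw [LinearMap.lTensor_inj_iff_rTensor_inj]
  have h := Module.FaithfullyFlat.tensorProduct_mk_injective (A := B) (B := C) (B ⊗[R] M)
  have e : ∀ x : B ⊗[R] M, (IsScalarTower.toAlgHom R B C).toLinearMap.rTensor M x =
      TensorProduct.AlgebraTensorModule.cancelBaseChange R B C C M
        (TensorProduct.mk B C (B ⊗[R] M) 1 x) := by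
    intro x
    induction x using TensorProduct.induction_on with
    | zero => simp
    | tmul b m => simp [Algebra.smul_def]
    | add x y hx hy => rw [map_add, hx, hy, map_add, map_add]
  intro x y hxy
  rw [e, e] at hxy
  exact h ((TensorProduct.AlgebraTensorModule.cancelBaseChange R B C C M).injective hxy)

/-- An integral, flat and injective ring map is faithfully flat. -/
theorem faithfullyFlat_of_isIntegral_of_injective (B C : Type*) [CommRing B] [CommRing C]
    [Algebra B C] [Algebra.IsIntegral B C] [Module.Flat B C]
    (h : Function.Injective (algebraMap B C)) : Module.FaithfullyFlat B C := by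
  refine Module.FaithfullyFlat.of_comap_surjective fun P => ?_
  obtain ⟨Q, -, hQ, hQP⟩ := Ideal.exists_ideal_over_prime_of_isIntegral P.asIdeal (⊥ : Ideal C)
    (by rw [← RingHom.ker_eq_comap_bot, (RingHom.injective_iff_ker_eq_bot _).mp h]; exact bot_le)
  exact ⟨⟨Q, hQ⟩, PrimeSpectrum.ext hQP⟩

end Groth.Agent.Lib.Helper22
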