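import Groth.Agent.Lib.Helper22.QcqsInduction

/-!
# The qcqs induction principle inside a quasi-separated open
-/

set_option autoImplicit false
universe u
open AlgebraicGeometry CategoryTheory CategoryTheory.Limits TopologicalSpace

namespace Groth.Agent.Lib.Helper22.Qcqs

variable {X : Scheme.{u}}

section induction

variable (T : X.Opens) (hT : IsQuasiSeparated (T : Set X))
    (P : X.Opens → Prop) (h₁ : ∀ U : X.Opens, U ≤ T → IsAffineOpen U → P U)
    (h₂ : ∀ U V : X.Opens, U ≤ T → V ≤ T → IsCompact (U : Set X) → IsAffineOpen V → P U → P V →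
      P (U ⊓ V) → P (U ⊔ V))

include h₁ h₂ in
lemma P_lsup_of_le_affine_le (W : X.Opens) (hW : IsAffineOpen W) (hWT : W ≤ T) :
    ∀ (t : ℕ) (l : List X.Opens), l.length = t → (∀ V ∈ l, IsAffineOpen V ∧ V ≤ W) →
      P (lsup l) := by
  intro t
  induction t with
  | zero =>
    intro l hl _
    rw [List.length_eq_zero_iff] at hl
    subst hl
    exact h₁ _ bot_le (isAffineOpen_bot X)
  | succ t ih =>
    intro l hl hA
    obtain ⟨V, l', rfl⟩ := List.exists_cons_of_length_eq_add_one hl
    have hl' : l'.length = t := by simpa using hl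
    have hV := hA V List.mem_cons_self
    have hA' : ∀ V' ∈ l', IsAffineOpen V' ∧ V' ≤ W := fun V' h => hA V' (List.mem_cons_of_mem _ h)
    rw [lsup_cons, sup_comm]
    refine h₂ _ _ ((lsup_le fun V' h => (hA' V' h).2).trans hWT) (hV.2.trans hWT)
      (isCompact_lsup fun V' h => (hA' V' h).1) hV.1 (ih l' hl' hA') (h₁ V (hV.2.trans hWT) hV.1) ?_
    rw [inf_comm, inf_lsup]
    refine ih _ (by simpa using hl') ?_
    intro V' hV'
    rw [List.mem_map] at hV'
    obtain ⟨V'', hV'', rfl⟩ := hV'
    exact ⟨isAffineOpen_inf_of_le hW hV.2 (hA' V'' hV'').2 hV.1 (hA' V'' hV'').1,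
      inf_le_left.trans hV.2⟩

include hT h₁ h₂ in
lemma P_lsup_le :
    ∀ (t : ℕ) (l : List X.Opens), l.length = t → (∀ V ∈ l, IsAffineOpen V ∧ V ≤ T) →
      P (lsup l) := by
  intro t
  induction t with
  | zero =>
    intro l hl _
    rw [List.length_eq_zero_iff] at hl
    subst hl
    exact h₁ _ bot_le (isAffineOpen_bot X)
  | succ t ih =>
    intro l hl hA
    obtain ⟨V, l', rfl⟩ := List.exists_cons_of_length_eq_add_one hl
    have hl' : l'.length = t := by simpa using hl
    have hV := hA V List.mem_cons_self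
    have hA' : ∀ V' ∈ l', IsAffineOpen V' ∧ V' ≤ T := fun V' h => hA V' (List.mem_cons_of_mem _ h)
    rw [lsup_cons, sup_comm]
    have hc : IsCompact (lsup l' : Set X) := isCompact_lsup fun V' h => (hA' V' h).1
    have hlT : lsup l' ≤ T := lsup_le fun V' h => (hA' V' h).2
    refine h₂ _ _ hlT hV.2 hc hV.1 (ih l' hl' hA') (h₁ V hV.2 hV.1) ?_
    have hc' : IsCompact ((lsup l' ⊓ V : X.Opens) : Set X) := by
      rw [Opens.coe_inf]
      exact hT _ _ hlT (lsup l').isOpen hc hV.2 V.isOpen hV.1.isCompact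
    obtain ⟨l'', hl'', hsup⟩ := exists_list_of_isCompact _ hc'
    rw [← hsup]
    refine P_lsup_of_le_affine_le T P h₁ h₂ V hV.1 hV.2 _ l'' rfl ?_
    intro V' hV'
    exact ⟨hl'' V' hV', ((le_lsup hV').trans hsup.le).trans inf_le_right⟩

include hT h₁ h₂ in
/-- **Induction principle** for compact opens inside a quasi-separated open `T`. -/
theorem qcqs_induction_le (U : X.Opens) (hUT : U ≤ T) (hU : IsCompact (U : Set X)) : P U := by
  obtain ⟨l, hl, rfl⟩ := exists_list_of_isCompact U hU
  exact P_lsup_le T hT P h₁ h₂ _ l rfl fun V hV => ⟨hl V hV, (le_lsup hV).trans hUT⟩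

end induction

end Groth.Agent.Lib.Helper22.Qcqs
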