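import Mathlib.RingTheory.PowerSeries.Inverse
import Mathlib.RingTheory.PowerSeries.Exp
import Mathlib.NumberTheory.Bernoulli

/-!
# Low-degree coefficients of products and inverses of power series
-/

set_option autoImplicit false
universe u

namespace Groth.Agent.Lib.Helper22

open PowerSeries

variable {R : Type u} [CommRing R]

theorem coeff_zero_mul' (φ ψ : PowerSeries R) :
    coeff 0 (φ * ψ) = coeff 0 φ * coeff 0 ψ := by
  simp [PowerSeries.coeff_mul]

theorem coeff_one_mul' (φ ψ : PowerSeries R) :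
    coeff 1 (φ * ψ) = coeff 0 φ * coeff 1 ψ + coeff 1 φ * coeff 0 ψ := by
  simp [PowerSeries.coeff_mul, Finset.Nat.antidiagonal_succ]

theorem coeff_two_mul' (φ ψ : PowerSeries R) :
    coeff 2 (φ * ψ) = coeff 0 φ * coeff 2 ψ + coeff 1 φ * coeff 1 ψ + coeff 2 φ * coeff 0 ψ := by
  simp [PowerSeries.coeff_mul, Finset.Nat.antidiagonal_succ]
  ring

theorem coeff_three_mul' (φ ψ : PowerSeries R) :
    coeff 3 (φ * ψ) = coeff 0 φ * coeff 3 ψ + coeff 1 φ * coeff 2 ψ + coeff 2 φ * coeff 1 ψ +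
      coeff 3 φ * coeff 0 ψ := by
  simp [PowerSeries.coeff_mul, Finset.Nat.antidiagonal_succ]
  ring

section Field
variable {k : Type u} [Field k]

theorem inv_coeffs (φ : PowerSeries k) (h0 : coeff 0 φ = 1) :
    coeff 0 φ⁻¹ = 1 ∧ coeff 1 φ⁻¹ = -coeff 1 φ ∧
    coeff 2 φ⁻¹ = -(coeff 2 φ) + coeff 1 φ * coeff 1 φ ∧
    coeff 3 φ⁻¹ = -(coeff 3 φ) + 2 * coeff 2 φ * coeff 1 φ - coeff 1 φ * coeff 1 φ * coeff 1 φ := by
  have hc : constantCoeff φ ≠ 0 := by
    rw [← PowerSeries.coeff_zero_eq_constantCoeff_apply, h0]; exact one_ne_zero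
  have hmul : φ * φ⁻¹ = 1 := PowerSeries.mul_inv_cancel φ hc
  have e0 := congrArg (coeff 0) hmul
  have e1 := congrArg (coeff 1) hmul
  have e2 := congrArg (coeff 2) hmul
  have e3 := congrArg (coeff 3) hmul
  rw [coeff_zero_mul', h0, one_mul] at e0
  rw [coeff_one_mul', h0, one_mul] at e1
  rw [coeff_two_mul', h0, one_mul] at e2
  rw [coeff_three_mul', h0, one_mul] at e3
  simp only [PowerSeries.coeff_one, if_true, OfNat.ofNat_ne_zero, one_ne_zero, if_false] at e0 e1 e2 e3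
  have h0' : coeff 0 φ⁻¹ = 1 := e0
  rw [h0', mul_one] at e1 e2 e3
  have h1' : coeff 1 φ⁻¹ = -coeff 1 φ := by linear_combination e1
  rw [h1'] at e2 e3
  have h2' : coeff 2 φ⁻¹ = -(coeff 2 φ) + coeff 1 φ * coeff 1 φ := by linear_combination e2
  rw [h2'] at e3
  refine ⟨h0', h1', h2', ?_⟩
  linear_combination e3

end Field

/-- The first four coefficients of `bernoulli'PowerSeries ℚ`. -/
theorem bernoulli'PowerSeries_coeffs :
    coeff 0 (bernoulli'PowerSeries ℚ) = 1 ∧ coeff 1 (bernoulli'PowerSeries ℚ) = 1 / 2 ∧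
    coeff 2 (bernoulli'PowerSeries ℚ) = 1 / 12 ∧ coeff 3 (bernoulli'PowerSeries ℚ) = 0 := by
  refine ⟨?_, ?_, ?_, ?_⟩
  · simp [bernoulli'PowerSeries, PowerSeries.coeff_mk, bernoulli'_zero]
  · simp [bernoulli'PowerSeries, PowerSeries.coeff_mk, bernoulli'_one]
  · simp [bernoulli'PowerSeries, PowerSeries.coeff_mk, bernoulli'_two, Nat.factorial]
    norm_num
  · simp [bernoulli'PowerSeries, PowerSeries.coeff_mk, bernoulli'_three]

end Groth.Agent.Lib.Helper22
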