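import Groth.Agent.Lib.Helper22.SeriesLow
import Mathlib.Algebra.BigOperators.NatAntidiagonal

/-!
# The Todd-class integrand `B(-dx)⁻¹ B(-dpx) B(x)^(n+1) e^((dp-d-n-1+s)x)`

Here `B = bernoulli'PowerSeries ℚ`.  The key identity is `B(-wx) e^(wx) = B(wx)`, which shows that
the integrand is `G(x) · B(dpx)` with `G` independent of `p`.
-/

set_option autoImplicit false

namespace Groth.Agent.Lib.Helper22

open PowerSeries

/-- `B(x) = B(-x) e^x`. -/
theorem bernoulli'PowerSeries_eq :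
    bernoulli'PowerSeries ℚ = rescale (-1 : ℚ) (bernoulli'PowerSeries ℚ) * exp ℚ := by
  have h1 : bernoulliPowerSeries ℚ = rescale (-1 : ℚ) (bernoulli'PowerSeries ℚ) := by
    ext n
    rw [coeff_rescale]
    simp [bernoulliPowerSeries, bernoulli'PowerSeries, PowerSeries.coeff_mk, bernoulli]
    ring_nf
  rw [← h1]
  have h2 := bernoulli'PowerSeries_mul_exp_sub_one ℚ
  have h3 := bernoulliPowerSeries_mul_exp_sub_one ℚ
  have hne : (exp ℚ - 1 : PowerSeries ℚ) ≠ 0 := by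
    intro h
    have := congrArg (coeff 1) h
    simp [PowerSeries.coeff_exp] at this
  have h4 : (bernoulli'PowerSeries ℚ - bernoulliPowerSeries ℚ * exp ℚ) * (exp ℚ - 1) = 0 := by
    calc (bernoulli'PowerSeries ℚ - bernoulliPowerSeries ℚ * exp ℚ) * (exp ℚ - 1)
        = bernoulli'PowerSeries ℚ * (exp ℚ - 1) - (bernoulliPowerSeries ℚ * (exp ℚ - 1)) * exp ℚ := by
          ring
      _ = 0 := by rw [h2, h3, sub_self]
  rcases mul_eq_zero.mp h4 with h | h
  · exact sub_eq_zero.mp h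
  · exact absurd h hne

/-- `B(wx) = B(-wx) e^(wx)`. -/
theorem rescale_bernoulli'PowerSeries (w : ℚ) :
    rescale w (bernoulli'PowerSeries ℚ) =
      rescale (-w) (bernoulli'PowerSeries ℚ) * rescale w (exp ℚ) := by
  conv_lhs => rw [bernoulli'PowerSeries_eq]
  rw [map_mul, rescale_rescale, neg_one_mul]

theorem coeff_bernoulli'PowerSeries (n : ℕ) :
    coeff n (bernoulli'PowerSeries ℚ) = bernoulli' n / (Nat.factorial n : ℚ) := by
  simp [bernoulli'PowerSeries, PowerSeries.coeff_mk]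

theorem coeff_pow_bernoulli' (k : ℕ) :
    coeff 0 (bernoulli'PowerSeries ℚ ^ k) = 1 ∧ coeff 1 (bernoulli'PowerSeries ℚ ^ k) = (k : ℚ) / 2 := by
  obtain ⟨b0, b1, -, -⟩ := bernoulli'PowerSeries_coeffs
  induction k with
  | zero => simp
  | succ k ih =>
    obtain ⟨h0, h1⟩ := ih
    rw [pow_succ]
    refine ⟨?_, ?_⟩
    · rw [coeff_zero_mul', h0, b0, mul_one]
    · rw [coeff_one_mul', h0, h1, b0, b1]
      push_cast
      ring

/-- The `p`-independent factor of the Todd integrand. -/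
noncomputable def toddG (n d : ℕ) (s : ℤ) : PowerSeries ℚ :=
  (rescale (-(d : ℚ)) (bernoulli'PowerSeries ℚ))⁻¹ * bernoulli'PowerSeries ℚ ^ (n + 1) *
    rescale ((s : ℚ) - d - n - 1) (exp ℚ)

theorem todd_eq (n d : ℕ) (s : ℤ) (p : ℕ) :
    (rescale (-(d : ℚ)) (bernoulli'PowerSeries ℚ))⁻¹ *
        rescale (-((d : ℚ) * p)) (bernoulli'PowerSeries ℚ) * bernoulli'PowerSeries ℚ ^ (n + 1) *
        rescale ((d : ℚ) * p - d - n - 1 + s) (exp ℚ) =
      toddG n d s * rescale ((d : ℚ) * p) (bernoulli'PowerSeries ℚ) := by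
  have h1 : rescale ((d : ℚ) * p - d - n - 1 + s) (exp ℚ) =
      rescale ((d : ℚ) * p) (exp ℚ) * rescale ((s : ℚ) - d - n - 1) (exp ℚ) := by
    rw [exp_mul_exp_eq_exp_add]
    congr 2
    ring
  rw [h1, rescale_bernoulli'PowerSeries ((d : ℚ) * p), toddG]
  ring

theorem toddG_coeff_zero (n d : ℕ) (s : ℤ) : coeff 0 (toddG n d s) = 1 := by
  obtain ⟨b0, b1, -, -⟩ := bernoulli'PowerSeries_coeffs
  have φ0 : coeff 0 (rescale (-(d : ℚ)) (bernoulli'PowerSeries ℚ)) = 1 := by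
    rw [coeff_rescale, b0]; simp
  obtain ⟨i0, -, -, -⟩ := inv_coeffs _ φ0
  obtain ⟨p0, -⟩ := coeff_pow_bernoulli' (n + 1)
  have e0 : coeff 0 (rescale ((s : ℚ) - d - n - 1) (exp ℚ)) = 1 := by
    rw [coeff_rescale, coeff_exp]; simp
  rw [toddG, coeff_zero_mul', coeff_zero_mul', i0, p0, e0]
  norm_num

theorem toddG_coeff_one (n d : ℕ) (s : ℤ) :
    coeff 1 (toddG n d s) = (2 * (s : ℚ) - d - n - 1) / 2 := by
  obtain ⟨b0, b1, -, -⟩ := bernoulli'PowerSeries_coeffs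
  have φ0 : coeff 0 (rescale (-(d : ℚ)) (bernoulli'PowerSeries ℚ)) = 1 := by
    rw [coeff_rescale, b0]; simp
  have φ1 : coeff 1 (rescale (-(d : ℚ)) (bernoulli'PowerSeries ℚ)) = -(d : ℚ) / 2 := by
    rw [coeff_rescale, b1]; ring
  obtain ⟨i0, i1, -, -⟩ := inv_coeffs _ φ0
  rw [φ1] at i1
  obtain ⟨p0, p1⟩ := coeff_pow_bernoulli' (n + 1)
  have e0 : coeff 0 (rescale ((s : ℚ) - d - n - 1) (exp ℚ)) = 1 := by
    rw [coeff_rescale, coeff_exp]; simp
  have e1 : coeff 1 (rescale ((s : ℚ) - d - n - 1) (exp ℚ)) = (s : ℚ) - d - n - 1 := by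
    rw [coeff_rescale, coeff_exp]; simp
  rw [toddG, coeff_one_mul', coeff_zero_mul', coeff_one_mul', i0, i1, p0, p1, e0, e1]
  push_cast
  ring

/-- The coefficient of `x^n` of the Todd integrand as a polynomial expression in `dp`. -/
theorem todd_coeff (n d : ℕ) (s : ℤ) (p : ℕ) :
    coeff n ((rescale (-(d : ℚ)) (bernoulli'PowerSeries ℚ))⁻¹ *
        rescale (-((d : ℚ) * p)) (bernoulli'PowerSeries ℚ) * bernoulli'PowerSeries ℚ ^ (n + 1) *
        rescale ((d : ℚ) * p - d - n - 1 + s) (exp ℚ)) =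
      ∑ k ∈ Finset.range (n + 1), coeff k (toddG n d s) *
        (((d : ℚ) * p) ^ (n - k) * (bernoulli' (n - k) / (Nat.factorial (n - k) : ℚ))) := by
  rw [todd_eq, PowerSeries.coeff_mul,
    Finset.Nat.sum_antidiagonal_eq_sum_range_succ
      (fun i j => coeff i (toddG n d s) * coeff j (rescale ((d : ℚ) * p) (bernoulli'PowerSeries ℚ)))]
  refine Finset.sum_congr rfl ?_
  intro k _
  rw [coeff_rescale, coeff_bernoulli'PowerSeries]

end Groth.Agent.Lib.Helper22
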