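import Groth.Agent.Lib.Helper22.BernoulliSign
import Mathlib.Algebra.Polynomial.Degree.Lemmas
import Mathlib.Algebra.Polynomial.Eval.Degree

/-!
# Eventual negativity from the two leading terms
-/

set_option autoImplicit false

namespace Groth.Agent.Lib.Helper22

/-- If `F p = b (d p)^n / n! + c (d p)^(n-1)/(n-1)! + P(p)` with `deg P ≤ n - 2`, and either `b < 0`, or
`b = 0` and `c < 0`, then `F p < 0` for all large `p`. -/
theorem eventually_neg_of_leading (n d : ℕ) (hn : 2 ≤ n) (hd : 1 ≤ d) (b c : ℚ)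
    (F : ℕ → ℚ) (P : Polynomial ℚ) (hP : P.natDegree ≤ n - 2)
    (hF : ∀ p : ℕ, F p = b * ((d : ℚ) * p) ^ n / (Nat.factorial n : ℚ) +
      c * ((d : ℚ) * p) ^ (n - 1) / (Nat.factorial (n - 1) : ℚ) + P.eval (p : ℚ))
    (hsign : b < 0 ∨ (b = 0 ∧ c < 0)) :
    ∃ P₀ : ℕ, ∀ p : ℕ, P₀ ≤ p → F p < 0 := by
  have hd0 : (0 : ℚ) < d := by exact_mod_cast hd
  rcases hsign with hb | ⟨hb, hc⟩
  · -- leading term of degree n
    set Q : Polynomial ℚ := Polynomial.C (c * (d : ℚ) ^ (n - 1) / (Nat.factorial (n - 1) : ℚ)) *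
      Polynomial.X ^ (n - 1) + P with hQ
    have hQdeg : Q.natDegree ≤ n - 1 := by
      refine le_trans (Polynomial.natDegree_add_le _ _) (max_le ?_ ?_)
      · exact Polynomial.natDegree_C_mul_X_pow_le _ _
      · exact le_trans hP (by omega)
    have ha : 0 < -b * (d : ℚ) ^ n / (Nat.factorial n : ℚ) := by
      have : 0 < -b := by linarith
      positivity
    obtain ⟨P₀, hP₀⟩ := eventually_neg_of_natDegree_lt _ ha n (by omega) Q hQdeg
    refine ⟨P₀, fun p hp => ?_⟩
    have := hP₀ p hp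
    rw [hF p]
    have hfn : (Nat.factorial n : ℚ) ≠ 0 := by positivity
    have hfn1 : (Nat.factorial (n - 1) : ℚ) ≠ 0 := by positivity
    have e : b * ((d : ℚ) * p) ^ n / (Nat.factorial n : ℚ) +
        c * ((d : ℚ) * p) ^ (n - 1) / (Nat.factorial (n - 1) : ℚ) + P.eval (p : ℚ) =
        -(-b * (d : ℚ) ^ n / (Nat.factorial n : ℚ)) * (p : ℚ) ^ n + Q.eval (p : ℚ) := by
      rw [hQ, Polynomial.eval_add, Polynomial.eval_mul, Polynomial.eval_C, Polynomial.eval_pow,
        Polynomial.eval_X, mul_pow, mul_pow]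
      field_simp
      ring
    rw [e]
    exact this
  · -- leading term of degree n - 1
    have ha : 0 < -c * (d : ℚ) ^ (n - 1) / (Nat.factorial (n - 1) : ℚ) := by
      have : 0 < -c := by linarith
      positivity
    have hP' : P.natDegree ≤ (n - 1) - 1 := le_trans hP (by omega)
    obtain ⟨P₀, hP₀⟩ := eventually_neg_of_natDegree_lt _ ha (n - 1) (by omega) P hP'
    refine ⟨P₀, fun p hp => ?_⟩
    have := hP₀ p hp
    rw [hF p, hb]
    have hfn1 : (Nat.factorial (n - 1) : ℚ) ≠ 0 := by positivity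
    have e : (0 : ℚ) * ((d : ℚ) * p) ^ n / (Nat.factorial n : ℚ) +
        c * ((d : ℚ) * p) ^ (n - 1) / (Nat.factorial (n - 1) : ℚ) + P.eval (p : ℚ) =
        -(-c * (d : ℚ) ^ (n - 1) / (Nat.factorial (n - 1) : ℚ)) * (p : ℚ) ^ (n - 1) +
          P.eval (p : ℚ) := by
      rw [mul_pow]
      field_simp
      ring
    rw [e]
    exact this

end Groth.Agent.Lib.Helper22
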