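import Mathlib
import Groth.Agent.Lib.Helper22.AdaptedAcyclic

/-!
# Towers of abelian groups: `lim` has cohomological dimension at most one

A tower with surjective transition maps is `lim`-acyclic (Mittag-Leffler); every tower embeds into
one, with quotient again one.
-/

set_option autoImplicit false
set_option linter.unusedSectionVars false

universe u

open CategoryTheory CategoryTheory.Limits Opposite

namespace Groth.Agent.Lib.Helper22.TowerLim

/-- Towers of abelian groups. -/
abbrev Tower := ℕᵒᵖ ⥤ AddCommGrpCat.{u}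

/-- The transition map of a tower. -/
def tr (X : Tower.{u}) (n : ℕ) : X.obj (op (n + 1)) ⟶ X.obj (op n) :=
  X.map (homOfLE (Nat.le_add_right n 1)).op

/-- Towers with surjective transition maps. -/
def Surj : ObjectProperty Tower.{u} := fun X => ∀ n, Function.Surjective (tr X n)

lemma map_eq_of_succ (X : Tower.{u}) (b : ∀ n, X.obj (op n))
    (hb : ∀ n, tr X n (b (n + 1)) = b n) {m n : ℕ} (h : m ≤ n) :
    X.map (homOfLE h).op (b n) = b m := by
  induction n, h using Nat.le_induction with
  | base =>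
    have : (homOfLE (le_refl m)).op = 𝟙 (op m) := Subsingleton.elim _ _
    rw [this, X.map_id]
    rfl
  | succ n h ih =>
    have h2 : (homOfLE (h.trans (Nat.le_succ n))).op =
        (homOfLE (Nat.le_add_right n 1)).op ≫ (homOfLE h).op := Subsingleton.elim _ _
    have h3 : X.map (homOfLE (h.trans (Nat.le_succ n))).op (b (n + 1)) =
        X.map (homOfLE h).op (tr X n (b (n + 1))) := by
      rw [h2, X.map_comp]
      rfl
    exact h3.trans ((congrArg _ (hb n)).trans ih)

lemma exists_limit_elt (X : Tower.{u}) (b : ∀ n, X.obj (op n))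
    (hb : ∀ n, tr X n (b (n + 1)) = b n) :
    ∃ x : (limit X : AddCommGrpCat.{u}), ∀ n, limit.π X (op n) x = b n := by
  let s : (X ⋙ forget AddCommGrpCat.{u}).sections := ⟨fun j => b j.unop, by
    intro j j' f
    exact map_eq_of_succ X b hb (leOfHom f.unop)⟩
  let e := Types.isLimitEquivSections
    (isLimitOfPreserves (forget AddCommGrpCat.{u}) (limit.isLimit X))
  refine ⟨e.symm s, fun n => ?_⟩
  have h := Types.isLimitEquivSections_symm_apply
    (isLimitOfPreserves (forget AddCommGrpCat.{u}) (limit.isLimit X)) s (op n)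
  exact h

section SES

variable (S : ShortComplex Tower.{u}) (hS : S.ShortExact)

include hS in
lemma surjective_g_app (n : ℕ) : Function.Surjective (S.g.app (op n)) := by
  have h := hS.map_of_exact ((evaluation ℕᵒᵖ AddCommGrpCat.{u}).obj (op n))
  have := h.epi_g
  exact (AddCommGrpCat.epi_iff_surjective _).1 this

include hS in
lemma injective_f_app (n : ℕ) : Function.Injective (S.f.app (op n)) := by
  have h := hS.map_of_exact ((evaluation ℕᵒᵖ AddCommGrpCat.{u}).obj (op n))
  have := h.mono_f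
  exact (AddCommGrpCat.mono_iff_injective _).1 this

include hS in
lemma exact_app (n : ℕ) (y : S.X₂.obj (op n)) (hy : S.g.app (op n) y = 0) :
    ∃ x : S.X₁.obj (op n), S.f.app (op n) x = y := by
  have h := hS.map_of_exact ((evaluation ℕᵒᵖ AddCommGrpCat.{u}).obj (op n))
  exact (ShortComplex.ab_exact_iff _).1 h.exact y hy

lemma zero_app (n : ℕ) (x : S.X₁.obj (op n)) : S.g.app (op n) (S.f.app (op n) x) = 0 := by
  have h : S.f.app (op n) ≫ S.g.app (op n) = 0 := by
    rw [← NatTrans.comp_app, S.zero]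
    rfl
  exact ConcreteCategory.congr_hom h x

include hS in
/-- A quotient of a tower with surjective transition maps has surjective transition maps. -/
lemma surj_X₃ (h₂ : Surj S.X₂) : Surj S.X₃ := by
  intro n c
  obtain ⟨b, rfl⟩ := surjective_g_app S hS n c
  obtain ⟨b', rfl⟩ := h₂ n b
  exact ⟨S.g.app (op (n + 1)) b', (NatTrans.naturality_apply S.g _ b').symm⟩

include hS in
/-- Mittag-Leffler: `lim` of an epimorphism with kernel having surjective transition maps is
surjective. -/
lemma surjective_limMap (h₁ : Surj S.X₁) :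
    Function.Surjective ((lim : Tower.{u} ⥤ AddCommGrpCat.{u}).map S.g) := by
  intro c
  have hg := surjective_g_app S hS
  have hex := exact_app S hS
  let cn : ∀ n, S.X₃.obj (op n) := fun n => limit.π S.X₃ (op n) c
  have hcn : ∀ n, tr S.X₃ n (cn (n + 1)) = cn n := by
    intro n
    exact ConcreteCategory.congr_hom (limit.w S.X₃ (homOfLE (Nat.le_add_right n 1)).op) c
  have step : ∀ n (b : S.X₂.obj (op n)), S.g.app (op n) b = cn n →
      ∃ b' : S.X₂.obj (op (n + 1)), S.g.app (op (n + 1)) b' = cn (n + 1) ∧ tr S.X₂ n b' = b := by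
    intro n b hb
    obtain ⟨b₀, hb₀⟩ := hg (n + 1) (cn (n + 1))
    have hnat : S.g.app (op n) (tr S.X₂ n b₀) = tr S.X₃ n (S.g.app (op (n + 1)) b₀) :=
      NatTrans.naturality_apply S.g _ b₀
    have h0 : S.g.app (op n) (tr S.X₂ n b₀ - b) = 0 := by
      rw [map_sub, hb, hnat, hb₀, hcn, sub_self]
    obtain ⟨a, ha⟩ := hex n _ h0
    obtain ⟨a', ha'⟩ := h₁ n a
    have hnatf : S.f.app (op n) (tr S.X₁ n a') = tr S.X₂ n (S.f.app (op (n + 1)) a') :=
      NatTrans.naturality_apply S.f _ a'
    refine ⟨b₀ - S.f.app (op (n + 1)) a', ?_, ?_⟩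
    · rw [map_sub, hb₀, zero_app, sub_zero]
    · rw [map_sub, ← hnatf, ha', ha]
      abel
  obtain ⟨b0, hb0⟩ := hg 0 (cn 0)
  let seq : ∀ n, {b : S.X₂.obj (op n) // S.g.app (op n) b = cn n} := fun n =>
    Nat.rec (motive := fun n => {b : S.X₂.obj (op n) // S.g.app (op n) b = cn n}) ⟨b0, hb0⟩
      (fun n p => ⟨(step n p.1 p.2).choose, (step n p.1 p.2).choose_spec.1⟩) n
  have hseq : ∀ n, tr S.X₂ n (seq (n + 1)).1 = (seq n).1 :=
    fun n => (step n (seq n).1 (seq n).2).choose_spec.2
  obtain ⟨x, hx⟩ := exists_limit_elt S.X₂ (fun n => (seq n).1) hseq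
  refine ⟨x, ?_⟩
  apply Concrete.limit_ext
  rintro ⟨n⟩
  have h1 : limit.π S.X₃ (op n) ((lim : Tower.{u} ⥤ AddCommGrpCat.{u}).map S.g x) =
      S.g.app (op n) (limit.π S.X₂ (op n) x) :=
    ConcreteCategory.congr_hom (limMap_π S.g (op n)) x
  rw [h1, hx n]
  exact (seq n).2

end SES

/-! ### The embedding into a tower with surjective transition maps -/

/-- `∏_{k ≤ n} A_k`. -/
def bigObj (A : Tower.{u}) (n : ℕ) : AddCommGrpCat.{u} :=
  AddCommGrpCat.of (∀ k : Fin (n + 1), A.obj (op k.1))

/-- The restriction maps. -/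
def bigMap (A : Tower.{u}) {m n : ℕ} (h : m ≤ n) : bigObj A n ⟶ bigObj A m :=
  AddCommGrpCat.ofHom
    { toFun := fun x k => x ⟨k.1, lt_of_lt_of_le k.2 (Nat.succ_le_succ h)⟩
      map_zero' := rfl
      map_add' := fun _ _ => rfl }

/-- The tower `n ↦ ∏_{k ≤ n} A_k`. -/
def big (A : Tower.{u}) : Tower.{u} where
  obj n := bigObj A n.unop
  map f := bigMap A (leOfHom f.unop)
  map_id _ := rfl
  map_comp _ _ := rfl

lemma big_surj (A : Tower.{u}) : Surj (big A) := by
  classical
  intro n x
  refine ⟨fun k => if h : k.1 < n + 1 then x ⟨k.1, h⟩ else 0, ?_⟩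
  funext k
  change (if h : k.1 < n + 1 then x ⟨k.1, h⟩ else 0) = x k
  rw [dif_pos k.2]

/-- The embedding `A ⟶ big A`. -/
def emb (A : Tower.{u}) : A ⟶ big A where
  app n := AddCommGrpCat.ofHom
    { toFun := fun a k => A.map (homOfLE (Nat.le_of_lt_succ k.2)).op a
      map_zero' := by
        funext k
        exact map_zero _
      map_add' := fun a b => by
        funext k
        exact map_add _ a b }
  naturality n m f := by
    ext a
    funext k
    change A.map (homOfLE _).op (A.map f a) = A.map (homOfLE _).op a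
    have h2 : f ≫ (homOfLE (Nat.le_of_lt_succ k.2)).op =
        (homOfLE (Nat.le_of_lt_succ (lt_of_lt_of_le k.2
          (Nat.succ_le_succ (leOfHom f.unop))))).op := Subsingleton.elim _ _
    rw [← h2, A.map_comp]
    rfl

instance (A : Tower.{u}) : Mono (emb A) := by
  rw [NatTrans.mono_iff_mono_app]
  intro n
  rw [AddCommGrpCat.mono_iff_injective]
  intro a b hab
  have h := congrFun hab (Fin.last n.unop)
  change A.map (homOfLE _).op a = A.map (homOfLE _).op b at h
  have h2 : (homOfLE (Nat.le_of_lt_succ (Fin.last n.unop).2)).op = 𝟙 n := Subsingleton.elim _ _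
  rw [h2, A.map_id] at h
  exact h

/-! ### Vanishing -/

lemma h1 (X : Tower.{u}) : ∃ (Y : Tower.{u}) (ι : X ⟶ Y), Surj Y ∧ Mono ι :=
  ⟨big X, emb X, big_surj X, inferInstance⟩

instance : PreservesLimitsOfSize.{0, 0} (lim : Tower.{u} ⥤ AddCommGrpCat.{u}) :=
  (constLimAdj (J := ℕᵒᵖ) (C := AddCommGrpCat.{u})).rightAdjoint_preservesLimits

lemma h2 [(lim : Tower.{u} ⥤ AddCommGrpCat.{u}).Additive] (S : ShortComplex Tower.{u})
    (hS : S.ShortExact) (h₁ : Surj S.X₁) (h₂ : Surj S.X₂) :
    Surj S.X₃ ∧ (S.map (lim : Tower.{u} ⥤ AddCommGrpCat.{u})).ShortExact := by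
  refine ⟨surj_X₃ S hS h₂, ?_⟩
  have := hS.mono_f
  have hm : Mono ((lim : Tower.{u} ⥤ AddCommGrpCat.{u}).map S.f) := inferInstance
  have he : Epi ((lim : Tower.{u} ⥤ AddCommGrpCat.{u}).map S.g) :=
    (AddCommGrpCat.epi_iff_surjective _).2 (surjective_limMap S hS h₁)
  exact
    { exact := hS.exact.map_of_mono_of_preservesKernel _ hS.mono_f inferInstance
      mono_f := hm
      epi_g := he }

open Groth.Agent.Lib.Helper22.AdaptedAcyclic Groth.Agent.Lib.Helper22.Horseshoe
  Groth.Agent.Lib.Helper25.DeltaFEff in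
theorem isZero_rightDerived_lim [EnoughInjectives Tower.{u}]
    [(lim : Tower.{u} ⥤ AddCommGrpCat.{u}).Additive] (A : Tower.{u}) (i : ℕ) (hi : 2 ≤ i) :
    IsZero (((lim : Tower.{u} ⥤ AddCommGrpCat.{u}).rightDerived i).obj A) := by
  obtain ⟨j, rfl⟩ : ∃ j, i = j + 1 + 1 := ⟨i - 2, by omega⟩
  let F := (lim : Tower.{u} ⥤ AddCommGrpCat.{u})
  have hS := sesOf_shortExact (emb A)
  have hQ : Surj (cokernel (emb A)) := surj_X₃ (sesOf (emb A)) hS (big_surj A)
  have hB : IsZero ((F.rightDerived (j + 1 + 1)).obj (big A)) :=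
    isZero_rightDerived_succ (F := F) (I := Surj) h1 (fun S hS a b => h2 S hS a b) (j + 1) _
      (big_surj A)
  have hC : IsZero ((F.rightDerived (j + 1)).obj (cokernel (emb A))) :=
    isZero_rightDerived_succ (F := F) (I := Surj) h1 (fun S hS a b => h2 S hS a b) j _ hQ
  let Δ := derivedLES F
  have hex := Δ.exact₁ (sesOf (emb A)) hS (j + 1) (j + 1 + 1) rfl
  exact hex.isZero_of_both_zeros (hC.eq_of_src _ _) (hB.eq_of_tgt _ _)

end Groth.Agent.Lib.Helper22.TowerLim
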